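import Groth.Agent.Fano.K745.ConDef
import Mathlib.RingTheory.MvPolynomial.Homogeneous
import Mathlib.LinearAlgebra.Matrix.Notation

/-!
# Conics: algebra

* `exists_matrix`: if the products of three vectors `y` span `W` and satisfy a nontrivial relation, then after an integral
  change of coordinates the five products different from `x_0²` span `W`;
* `exists_eq_C_mul_qf`, `q6_eq_zero`, `comp3_comp3`: ternary quadratic forms.
-/

set_option autoImplicit false

universe u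

namespace K247.ConAlg

section Linear

variable {K V W : Type*} [AddCommGroup V] [AddCommGroup W]

/-- The products of three vectors different from `x_0²`. -/
def mon5 (β : V →+ V →+ W) (x : Fin 3 → V) : Fin 5 → W :=
  ![β (x 0) (x 1), β (x 0) (x 2), β (x 1) (x 1), β (x 1) (x 2), β (x 2) (x 2)]

theorem mem_of_sq [Field K] [Module K W] (β : V →+ V →+ W) (hβ : ∀ u v, β u v = β v u) (x : Fin 3 → V)
    (h0 : β (x 0) (x 0) ∈ Submodule.span K (Set.range (mon5 β x))) (i j : Fin 3) :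
    β (x i) (x j) ∈ Submodule.span K (Set.range (mon5 β x)) := by
  have h : ∀ k : Fin 5, mon5 β x k ∈ Submodule.span K (Set.range (mon5 β x)) := fun k =>
    Submodule.subset_span ⟨k, rfl⟩
  fin_cases i <;> fin_cases j
  · exact h0
  · exact h 0
  · exact h 1
  · exact (hβ _ _) ▸ h 0
  · exact h 2
  · exact h 3
  · exact (hβ _ _) ▸ h 1
  · exact (hβ _ _) ▸ h 3
  · exact h 4

/-- Uniform step: `y = Q x`, and the relation has a nonzero value at the first column of `Q`. -/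
theorem span_mon5 [Field K] [Module K W] (β : V →+ V →+ W) (hβ : ∀ u v, β u v = β v u) (y x : Fin 3 → V)
    (Q : Matrix (Fin 3) (Fin 3) ℤ) (hQ : ∀ i, y i = ∑ j, Q i j • x j)
    (hspan : ∀ w : W, w ∈ Submodule.span K (Set.range fun p : Fin 3 × Fin 3 => β (y p.1) (y p.2)))
    (c : Fin 6 → K)
    (hc : c 0 • β (y 0) (y 0) + c 1 • β (y 0) (y 1) + c 2 • β (y 0) (y 2) + c 3 • β (y 1) (y 1) +
      c 4 • β (y 1) (y 2) + c 5 • β (y 2) (y 2) = 0)
    (hv : c 0 * (Q 0 0 * Q 0 0 : ℤ) + c 1 * (Q 0 0 * Q 1 0 : ℤ) + c 2 * (Q 0 0 * Q 2 0 : ℤ) +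
      c 3 * (Q 1 0 * Q 1 0 : ℤ) + c 4 * (Q 1 0 * Q 2 0 : ℤ) + c 5 * (Q 2 0 * Q 2 0 : ℤ) ≠ 0) (w : W) :
    w ∈ Submodule.span K (Set.range (mon5 β x)) := by
  let S := Submodule.span K (Set.range (mon5 β x))
  let π : W →ₗ[K] W ⧸ S := S.mkQ
  have hm : ∀ k : Fin 5, π (mon5 β x k) = 0 := fun k =>
    (Submodule.Quotient.mk_eq_zero _).2 (Submodule.subset_span ⟨k, rfl⟩)
  have hπ : ∀ i j : Fin 3, (i, j) ≠ (0, 0) → π (β (x i) (x j)) = 0 := by
    intro i j hij
    fin_cases i <;> fin_cases j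
    · exact absurd rfl hij
    · exact hm 0
    · exact hm 1
    · exact (congrArg π (hβ _ _)).trans (hm 0)
    · exact hm 2
    · exact hm 3
    · exact (congrArg π (hβ _ _)).trans (hm 1)
    · exact (congrArg π (hβ _ _)).trans (hm 3)
    · exact hm 4
  have hy : ∀ i j, π (β (y i) (y j)) = ((Q i 0 * Q j 0 : ℤ) : K) • π (β (x 0) (x 0)) := by
    intro i j
    rw [hQ i, hQ j]
    simp only [map_sum, map_zsmul, AddMonoidHom.finsetSum_apply, AddMonoidHom.coe_smul, Pi.smul_apply]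
    rw [Fin.sum_univ_three]
    simp only [Fin.sum_univ_three]
    rw [hπ 1 0 (by decide), hπ 2 0 (by decide), hπ 0 1 (by decide), hπ 1 1 (by decide), hπ 2 1 (by decide),
      hπ 0 2 (by decide), hπ 1 2 (by decide), hπ 2 2 (by decide)]
    simp only [smul_zero, add_zero]
    rw [Int.cast_smul_eq_zsmul, smul_smul, mul_comm]
  have h0 : π (β (x 0) (x 0)) = 0 := by
    have h1 := congrArg π hc
    simp only [map_add, map_smul, map_zero, hy, smul_smul, ← add_smul] at h1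
    exact (smul_eq_zero.1 h1).resolve_left hv
  have h2 := mem_of_sq (K := K) β hβ x ((Submodule.Quotient.mk_eq_zero _).1 h0)
  have h3 : ∀ i j, β (y i) (y j) ∈ S := by
    intro i j
    rw [hQ i, hQ j]
    simp only [map_sum, map_zsmul, AddMonoidHom.finsetSum_apply, AddMonoidHom.coe_smul, Pi.smul_apply]
    refine Submodule.sum_mem _ fun a _ => ?_
    refine zsmul_mem (Submodule.sum_mem _ fun b _ => zsmul_mem (h2 _ _) _) _
  refine Submodule.span_le.2 ?_ (hspan w)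
  rintro _ ⟨p, rfl⟩
  exact h3 _ _

/-- After an integral change of coordinates the products different from `x_0²` span. -/
theorem exists_matrix [Field K] [Module K W] (β : V →+ V →+ W) (hβ : ∀ u v, β u v = β v u) (y : Fin 3 → V)
    (hspan : ∀ w : W, w ∈ Submodule.span K (Set.range fun p : Fin 3 × Fin 3 => β (y p.1) (y p.2)))
    (c : Fin 6 → K) (hc0 : c ≠ 0)
    (hc : c 0 • β (y 0) (y 0) + c 1 • β (y 0) (y 1) + c 2 • β (y 0) (y 2) + c 3 • β (y 1) (y 1) +
      c 4 • β (y 1) (y 2) + c 5 • β (y 2) (y 2) = 0) :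
    ∃ P Q : Matrix (Fin 3) (Fin 3) ℤ, Q * P = 1 ∧
      ∀ w : W, w ∈ Submodule.span K (Set.range (mon5 β fun i => ∑ j, P i j • y j)) := by
  have key : ∀ P Q : Matrix (Fin 3) (Fin 3) ℤ, Q * P = 1 →
      c 0 * (Q 0 0 * Q 0 0 : ℤ) + c 1 * (Q 0 0 * Q 1 0 : ℤ) + c 2 * (Q 0 0 * Q 2 0 : ℤ) +
      c 3 * (Q 1 0 * Q 1 0 : ℤ) + c 4 * (Q 1 0 * Q 2 0 : ℤ) + c 5 * (Q 2 0 * Q 2 0 : ℤ) ≠ 0 →
      ∃ P Q : Matrix (Fin 3) (Fin 3) ℤ, Q * P = 1 ∧
      ∀ w : W, w ∈ Submodule.span K (Set.range (mon5 β fun i => ∑ j, P i j • y j)) := by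
    intro P Q hQP h
    refine ⟨P, Q, hQP, fun w => span_mon5 β hβ y _ Q (fun i => ?_) hspan c hc h w⟩
    simp only [Finset.smul_sum, smul_smul]
    rw [Finset.sum_comm]
    have h1 : ∀ k, ∑ j, (Q i j * P j k) • y k = (1 : Matrix (Fin 3) (Fin 3) ℤ) i k • y k := by
      intro k
      rw [← Finset.sum_smul, ← Matrix.mul_apply, hQP]
    simp only [h1, Matrix.one_apply, ite_smul, one_smul, zero_smul, Finset.sum_ite_eq, Finset.mem_univ, if_true]
  by_cases h0 : c 0 = 0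
  swap
  · exact key 1 1 (by simp) (by simpa using h0)
  by_cases h3 : c 3 = 0
  swap
  · exact key !![0, 1, 0; 1, 0, 0; 0, 0, 1] !![0, 1, 0; 1, 0, 0; 0, 0, 1] (by decide) (by simpa using h3)
  by_cases h5 : c 5 = 0
  swap
  · exact key !![0, 0, 1; 0, 1, 0; 1, 0, 0] !![0, 0, 1; 0, 1, 0; 1, 0, 0] (by decide) (by simpa using h5)
  by_cases h1 : c 1 = 0
  swap
  · exact key !![1, 0, 0; -1, 1, 0; 0, 0, 1] !![1, 0, 0; 1, 1, 0; 0, 0, 1] (by decide) (by simpa [h0, h3] using h1)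
  by_cases h2 : c 2 = 0
  swap
  · exact key !![1, 0, 0; 0, 1, 0; -1, 0, 1] !![1, 0, 0; 0, 1, 0; 1, 0, 1] (by decide) (by simpa [h0, h5] using h2)
  by_cases h4 : c 4 = 0
  swap
  · exact key !![0, 1, 0; 1, 0, 0; 0, -1, 1] !![0, 1, 0; 1, 0, 0; 1, 0, 1] (by decide) (by
      simpa [h0, h1, h2, h3, h5] using h4)
  exact absurd (funext fun i => by fin_cases i <;> assumption) hc0

end Linear

section Poly

open MvPolynomial K745.ConDef

variable {A : Type u} [CommRing A]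

/-- Ternary quadratic forms. -/
noncomputable def q6 (b : Fin 6 → A) : MvPolynomial (Fin 3) A :=
  C (b 0) * X 0 ^ 2 + C (b 1) * (X 0 * X 1) + C (b 2) * (X 0 * X 2) + C (b 3) * X 1 ^ 2 +
    C (b 4) * (X 1 * X 2) + C (b 5) * X 2 ^ 2

theorem qf_eq_q6 (c : Fin 5 → A) : qf c = q6 ![1, c 0, c 1, c 2, c 3, c 4] := by
  simp [qf, q6]

theorem isHomogeneous_q6 (b : Fin 6 → A) : (q6 b).IsHomogeneous 2 := by
  have h1 : ∀ i : Fin 3, (X i : MvPolynomial (Fin 3) A).IsHomogeneous 1 := fun i => isHomogeneous_X _ _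
  have h2 : ∀ (a : A) (i : Fin 3), (C a * X i ^ 2 : MvPolynomial (Fin 3) A).IsHomogeneous 2 := fun a i => by
    simpa using (isHomogeneous_C (Fin 3) a).mul ((h1 i).pow 2)
  have h3 : ∀ (a : A) (i j : Fin 3), (C a * (X i * X j) : MvPolynomial (Fin 3) A).IsHomogeneous 2 := fun a i j => by
    simpa using (isHomogeneous_C (Fin 3) a).mul ((h1 i).mul (h1 j))
  exact (((((h2 _ _).add (h3 _ _ _)).add (h3 _ _ _)).add (h2 _ _)).add (h3 _ _ _)).add (h2 _ _)

theorem isHomogeneous_qf (c : Fin 5 → A) : (qf c).IsHomogeneous 2 := by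
  rw [qf_eq_q6]
  exact isHomogeneous_q6 _

theorem eval_q6 (b : Fin 6 → A) (v : Fin 3 → A) : eval v (q6 b) = b 0 * v 0 ^ 2 + b 1 * (v 0 * v 1) +
    b 2 * (v 0 * v 2) + b 3 * v 1 ^ 2 + b 4 * (v 1 * v 2) + b 5 * v 2 ^ 2 := by
  simp [q6]

theorem q6_eq_zero {b : Fin 6 → A} (h : q6 b = 0) : b = 0 := by
  have h1 := fun v : Fin 3 → A => (eval_q6 b v).symm.trans (by rw [h, map_zero])
  have a0 := h1 ![1, 0, 0]
  have a1 := h1 ![0, 1, 0]
  have a2 := h1 ![0, 0, 1]
  have a3 := h1 ![1, 1, 0]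
  have a4 := h1 ![1, 0, 1]
  have a5 := h1 ![0, 1, 1]
  simp at a0 a1 a2 a3 a4 a5
  rw [a0, a1] at a3
  rw [a0, a2] at a4
  rw [a1, a2] at a5
  simp at a3 a4 a5
  funext i
  fin_cases i <;> assumption

theorem qf_ne_zero [Nontrivial A] (c : Fin 5 → A) : qf c ≠ 0 := by
  intro h
  rw [qf_eq_q6] at h
  exact one_ne_zero (congrFun (q6_eq_zero h) 0)

/-- A quadratic form divisible by `qf c` is a multiple. -/
theorem exists_eq_C_mul_qf [IsDomain A] (c : Fin 5 → A) {F : MvPolynomial (Fin 3) A} (hF : F.IsHomogeneous 2)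
    (h : qf c ∣ F) : ∃ w : A, F = C w * qf c := by
  obtain ⟨H, rfl⟩ := h
  by_cases hH : H = 0
  · exact ⟨0, by simp [hH]⟩
  have h1 := hF.totalDegree (mul_ne_zero (qf_ne_zero c) hH)
  rw [totalDegree_mul_of_isDomain (qf_ne_zero c) hH, (isHomogeneous_qf c).totalDegree (qf_ne_zero c)] at h1
  have h2 : H.totalDegree = 0 := by omega
  rw [totalDegree_eq_zero_iff_eq_C] at h2
  exact ⟨_, by rw [mul_comm, ← h2]⟩

/-- A quadratic form without `X_0²` divisible by `qf c` is zero. -/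
theorem eq_zero_of_dvd [IsDomain A] (c : Fin 5 → A) {b : Fin 6 → A} (h0 : b 0 = 0) (h : qf c ∣ q6 b) : b = 0 := by
  obtain ⟨w, hw⟩ := exists_eq_C_mul_qf c (isHomogeneous_q6 b) h
  have h1 := congrArg (eval ![1, 0, 0]) hw
  rw [map_mul, qf_eq_q6, eval_q6, eval_q6] at h1
  simp [h0] at h1
  apply q6_eq_zero
  rw [hw, ← h1]
  simp

theorem isHomogeneous_lin3 (v : Fin 3 → A) : (lin3 v).IsHomogeneous 1 := by
  refine IsHomogeneous.sum _ _ _ fun i _ => ?_
  simpa using (isHomogeneous_C (Fin 3) (v i)).mul (isHomogeneous_X A i)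

theorem isHomogeneous_comp3 {F : MvPolynomial (Fin 3) A} {m : ℕ} (hF : F.IsHomogeneous m)
    (g : Matrix (Fin 3) (Fin 3) A) : (comp3 F g).IsHomogeneous m := by
  have := hF.aeval (fun i => lin3 (g i)) fun i => isHomogeneous_lin3 (g i)
  rwa [one_mul] at this

theorem comp3_zero (g : Matrix (Fin 3) (Fin 3) A) : comp3 (0 : MvPolynomial (Fin 3) A) g = 0 := map_zero _

theorem comp3_one (F : MvPolynomial (Fin 3) A) : comp3 F 1 = F := by
  have h : (fun i => lin3 ((1 : Matrix (Fin 3) (Fin 3) A) i)) = (X : Fin 3 → MvPolynomial (Fin 3) A) := by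
    funext i
    simp [lin3, Matrix.one_apply]
  rw [comp3, h, aeval_X_left, AlgHom.id_apply]

theorem comp3_comp3 (F : MvPolynomial (Fin 3) A) (g g' : Matrix (Fin 3) (Fin 3) A) :
    comp3 (comp3 F g) g' = comp3 F (g * g') := by
  have h : ((aeval fun i => lin3 (g' i)).comp (aeval fun i => lin3 (g i)) :
      MvPolynomial (Fin 3) A →ₐ[A] MvPolynomial (Fin 3) A) = aeval fun i => lin3 ((g * g') i) := by
    ext i : 1
    simp only [AlgHom.comp_apply, aeval_X, lin3, map_sum, map_mul, algHom_C, Matrix.mul_apply, Finset.mul_sum,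
      Finset.sum_mul]
    rw [Finset.sum_comm]
    refine Finset.sum_congr rfl fun j _ => Finset.sum_congr rfl fun k _ => ?_
    simp [mul_assoc]
  exact congrArg (fun φ => φ F) h

theorem eq_zero_of_comp3_eq_zero {F : MvPolynomial (Fin 3) A} {g g' : Matrix (Fin 3) (Fin 3) A} (hg : g * g' = 1)
    (h : comp3 F g = 0) : F = 0 := by
  rw [← comp3_one F, ← hg, ← comp3_comp3, h, comp3_zero]

end Poly

end K247.ConAlg
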