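import Groth.Agent.Ega3B.AcyclicBC
import Groth.Agent.Flat2G.H1Global
import Groth.Agent.Flat2G.FibDimVanish
import Groth.Agent.Models2.FibreFreeSch
import Groth.Agent.VarietyB.GlobGen
import Groth.Agent.CurvesC.NodalPos
import Groth.Agent.CurvesB.VABaseChange
import Groth.Agent.S1444
import Mathlib.RingTheory.LocalRing.Module
import Mathlib.RingTheory.LocalRing.ResidueField.Ideal
import Mathlib.LinearAlgebra.Dual.Lemmas
import Mathlib.RingTheory.Support

/-!
# Cohomology and base change for globally generated invertible modules on families of curves with `H¹(O) = 0`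

`f : X ⟶ S` proper, flat and of finite presentation, `S` affine, with fibres of dimension at most one and with
`H¹(O) = 0` on the fibres (`RatFib`), `M` invertible and globally generated:

* `subsingleton_HH`: `H^p(X, M) = 0` for `p > 0`; `finite_sec`: `Γ(X, M)` is a finite `Γ(S, O)`-module;
* `exists_sum_pullTop`: sections of the pullback of `M` to a base change are combinations of pulled back sections;
* `exists_smul_eq_sum`: sections `u_j` which generate the sections on a fibre generate the sections near this fibre;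
* `ratFib_of_geom`: `RatFib` from the geometric fibres.
-/

set_option autoImplicit false
set_option linter.style.haveILetI false
universe u

open CategoryTheory CategoryTheory.Limits AlgebraicGeometry TensorProduct

namespace K247.ConCoh

open Groth.Agent Groth.Agent.VarietyB.BCAlg Groth.Agent.VarietyB.FlatH0

section Algebra

/-- If the residue field extension `K ⊗ Q` of a finite module vanishes, then `Q` vanishes near this point. -/
theorem exists_smul_eq_zero {R K Q : Type*} [CommRing R] [Field K] [Algebra R K] [AddCommGroup Q] [Module R Q]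
    [Module.Finite R Q] (h : ∀ φ : Q →ₗ[R] K, φ = 0) : ∃ a : R, algebraMap R K a ≠ 0 ∧ ∀ q : Q, a • q = 0 := by
  let p : Ideal R := RingHom.ker (algebraMap R K)
  have hp : p.IsPrime := RingHom.ker_isPrime _
  let P : PrimeSpectrum R := ⟨p, hp⟩
  have h1 : P ∉ Module.support R Q := by
    intro hP
    rw [Module.mem_support_iff_nontrivial_residueField_tensorProduct] at hP
    obtain ⟨v, hv⟩ := exists_ne (0 : P.asIdeal.ResidueField ⊗[R] Q)
    obtain ⟨ψ, hψ⟩ : ∃ ψ : (P.asIdeal.ResidueField ⊗[R] Q) →ₗ[P.asIdeal.ResidueField] P.asIdeal.ResidueField,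
        ψ v ≠ 0 := by
      by_contra hcon
      push Not at hcon
      exact hv ((Module.forall_dual_apply_eq_zero_iff P.asIdeal.ResidueField v).1 hcon)
    let ι : P.asIdeal.ResidueField →+* K := Ideal.ResidueField.lift p (algebraMap R K) (le_refl _)
      (fun a ha => by
        change IsUnit (algebraMap R K a)
        exact isUnit_iff_ne_zero.2 fun h0 => ha h0)
    have hι : ∀ r : R, ι (algebraMap R _ r) = algebraMap R K r := fun r => Ideal.ResidueField.lift_algebraMap _ _ _ _ r
    let φ : Q →ₗ[R] K :=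
      { toFun := fun q => ι (ψ (1 ⊗ₜ q))
        map_add' := fun x y => by rw [tmul_add, map_add, map_add]
        map_smul' := fun r x => by
          rw [tmul_smul, RingHom.id_apply, Algebra.smul_def]
          rw [← algebraMap_smul P.asIdeal.ResidueField r (1 ⊗ₜ[R] x), map_smul, smul_eq_mul, map_mul, hι] }
    have hφ : ∀ q, ι (ψ (1 ⊗ₜ q)) = 0 := fun q => congr($(h φ) q)
    apply hψ
    have hinj : Function.Injective ι := ι.injective
    have key : ∀ w : P.asIdeal.ResidueField ⊗[R] Q, ψ w = 0 := by
      intro w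
      induction w using TensorProduct.induction_on with
      | zero => rw [map_zero]
      | add x y hx hy => rw [map_add, hx, hy, add_zero]
      | tmul a q =>
        have : a ⊗ₜ[R] q = a • (1 ⊗ₜ[R] q) := by rw [smul_tmul', smul_eq_mul, mul_one]
        rw [this, map_smul, hinj ((hφ q).trans (map_zero ι).symm), smul_zero]
    exact key v
  rw [Module.mem_support_iff_of_finite, SetLike.not_le_iff_exists] at h1
  obtain ⟨a, ha, hap⟩ := h1
  exact ⟨a, fun h0 => hap h0, fun q => Module.mem_annihilator.1 ha q⟩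

/-- If the images of `u_i` span the base change to a field, then `u_i` generate up to a scalar which is not zero there. -/
theorem exists_smul_mem_span {R K N V ι : Type*} [CommRing R] [CommRing K] (hK : IsField K) [Algebra R K]
    [AddCommGroup N] [Module R N] [Module.Finite R N] [AddCommGroup V] [Module K V]
    (s : N →ₛₗ[algebraMap R K] V) (hs : Function.Injective (bc s)) (u : ι → N)
    (hu : ∀ n : N, s n ∈ Submodule.span K (Set.range fun i => s (u i))) :
    ∃ a : R, algebraMap R K a ≠ 0 ∧ ∀ n : N, a • n ∈ Submodule.span R (Set.range u) := by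
  letI : Field K := hK.toField
  obtain ⟨a, ha, h⟩ := exists_smul_eq_zero (R := R) (K := K) (Q := N ⧸ Submodule.span R (Set.range u)) (by
    intro φ
    let φ' : N →ₗ[R] K := φ.comp (Submodule.mkQ _)
    have h0 : ∀ i, φ' (u i) = 0 := by
      intro i
      change φ (Submodule.Quotient.mk (u i)) = 0
      have h0 : (Submodule.Quotient.mk (u i) : N ⧸ Submodule.span R (Set.range u)) = 0 :=
        (Submodule.Quotient.mk_eq_zero _).2 (Submodule.subset_span ⟨i, rfl⟩)
      rw [h0, map_zero]
    let Φ : K ⊗[R] N →ₗ[K] K := φ'.liftBaseChange K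
    have hΦ : ∀ n, Φ (1 ⊗ₜ n) = φ' n := fun n => by
      simp [Φ]
    have key : ∀ v ∈ Submodule.span K (Set.range fun i => s (u i)), ∃ w : K ⊗[R] N, bc s w = v ∧ Φ w = 0 := by
      intro v hv
      induction hv using Submodule.span_induction with
      | mem v hv =>
        obtain ⟨i, rfl⟩ := hv
        exact ⟨1 ⊗ₜ u i, by simp, by rw [hΦ, h0]⟩
      | zero => exact ⟨0, map_zero _, map_zero _⟩
      | add x y _ _ hx hy =>
        obtain ⟨w, hw, hw'⟩ := hx
        obtain ⟨z, hz, hz'⟩ := hy
        exact ⟨w + z, by rw [map_add, hw, hz], by rw [map_add, hw', hz', add_zero]⟩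
      | smul c x _ hx =>
        obtain ⟨w, hw, hw'⟩ := hx
        exact ⟨c • w, by rw [map_smul, hw], by rw [map_smul, hw', smul_zero]⟩
    ext n
    obtain ⟨w, hw, hw'⟩ := key (s n) (hu n)
    have h1 : w = 1 ⊗ₜ n := hs (by rw [hw]; simp)
    rw [h1, hΦ] at hw'
    exact hw')
  refine ⟨a, ha, fun n => ?_⟩
  have := h (Submodule.Quotient.mk n)
  rwa [← Submodule.Quotient.mk_smul, Submodule.Quotient.mk_eq_zero] at this

end Algebra

open Groth.Agent.Fdesc.LocGen

/-- The fibres of `f` have dimension at most one and `H¹(O) = 0` on them. -/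
structure RatFib {X S : Scheme.{u}} (f : X ⟶ S) : Prop where
  dim : ∀ s : S, topologicalKrullDim ↥(f.fiber s) ≤ 1
  h1 : ∀ s : S, Subsingleton (Coh.HH (f.fiber s) (Coh.structureModule (f.fiber s)) 1)

/-- `RatFib` from the geometric fibres. -/
theorem ratFib_of_geom {X S : Scheme.{u}} (f : X ⟶ S) [IsProper f]
    (h : ∀ (Ω : Type u) [Field Ω] [IsAlgClosed Ω] (t : Spec (CommRingCat.of Ω) ⟶ S) (Xt : Scheme.{u}) (i : Xt ⟶ X)
      (q : Xt ⟶ Spec (CommRingCat.of Ω)), IsPullback i q f t → topologicalKrullDim Xt = 1 ∧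
        (letI : Xt.Over (Spec (CommRingCat.of Ω)) := ⟨q⟩
         Curv2.genus Ω Xt = 0)) : RatFib f := by
  have key : ∀ s : S, topologicalKrullDim ↥(f.fiber s) ≤ 1 ∧
      Subsingleton (Coh.HH (f.fiber s) (Coh.structureModule (f.fiber s)) 1) := by
    intro s
    let κ : Type u := S.residueField s
    let Ω : Type u := AlgebraicClosure κ
    let b : Spec (CommRingCat.of Ω) ⟶ Spec (CommRingCat.of κ) := Spec.map (CommRingCat.ofHom (algebraMap κ Ω))
    let F : f.fiber s ⟶ Spec (CommRingCat.of κ) := f.fiberToSpecResidueField s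
    have hF : IsPullback (f.fiberι s) F f (S.fromSpecResidueField s) := IsPullback.of_hasPullback _ _
    have hG : IsPullback (pullback.fst F b) (pullback.snd F b) F b := IsPullback.of_hasPullback _ _
    obtain ⟨h1, h2⟩ := h Ω (b ≫ S.fromSpecResidueField s) _ _ _ (hG.paste_horiz hF)
    letI : (f.fiber s).Over (Spec (CommRingCat.of κ)) := ⟨F⟩
    letI : (pullback F b).Over (Spec (CommRingCat.of Ω)) := ⟨pullback.snd F b⟩
    have hG' : IsPullback (pullback.fst F b) ((pullback F b) ↘ Spec (CommRingCat.of Ω))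
        (f.fiber s ↘ Spec (CommRingCat.of κ)) (Spec.map (CommRingCat.ofHom (algebraMap κ Ω))) := hG
    haveI : IsProper (f.fiber s ↘ Spec (CommRingCat.of κ)) :=
      MorphismProperty.of_isPullback (P := @IsProper) hF inferInstance
    refine ⟨?_, CurvesC.NodalPos.subsingleton_of_genus_zero κ (f.fiber s) ?_⟩
    · rw [← CurvesB.VABaseChange.topologicalKrullDim_eq hG', h1]
    · rw [← CurvesB.VABaseChange.genus_eq hG']
      exact h2
  exact ⟨fun s => (key s).1, fun s => (key s).2⟩

section Main

variable {X S : Scheme.{u}} (f : X ⟶ S) [IsProper f] [IsAffine S] (h : RatFib f) {M : X.Modules}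
  (hM : PicF.IsInvertible M) (hg : Curv2.IsGloballyGenerated M)

include h hM hg in
theorem subsingleton_HH (p : ℕ) : Subsingleton (Coh.HH X M (p + 1)) := by
  have hq := Ega2.QCohLocal.isQCoh_of_isInvertible hM
  rcases p with _ | p
  · obtain ⟨ι, e, he⟩ := hg
    exact @Groth.Agent.S1444.result _ _ f _ _ h.dim h.h1 M hq ι e he
  · exact Flat2G.FibDimVanish.subsingleton_HH f 1 h.dim M hq (p + 2) (by omega)

variable [Flat f] [LocallyOfFinitePresentation f]

/-- Functions on the base act on sections. -/
noncomputable abbrev modB {X S : Scheme.{u}} (f : X ⟶ S) (M : X.Modules) : Module Γ(S, ⊤) Γ(M, ⊤) :=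
  modOver f M (US := ⊤) (UX := ⊤) le_top

theorem appLE_top {X S : Scheme.{u}} (f : X ⟶ S) : f.appLE ⊤ ⊤ le_top = f.appTop := Scheme.Hom.appLE_eq_app _

theorem modB_smul {X S : Scheme.{u}} (f : X ⟶ S) (M : X.Modules) (a : Γ(S, ⊤)) (m : Γ(M, ⊤)) :
    (letI := modB f M; a • m) = f.appTop a • m := by
  rw [← appLE_top]
  rfl

include h hM hg in
/-- The sections form a finite module. -/
theorem finite_sec : letI := modB f M; Module.Finite Γ(S, ⊤) Γ(M, ⊤) := by
  have hq := Ega2.QCohLocal.isQCoh_of_isInvertible hM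
  have hfl := Models2.FibreFreeSch.isFlatOver_of_isInvertible f hM
  obtain ⟨-, h1, -⟩ := Models2.FibreFreeSch.affineOpen f hM (isAffineOpen_top S) (fun s _ p hp => by
    obtain ⟨p, rfl⟩ : ∃ p', p = p' + 1 := ⟨p - 1, by omega⟩
    have hF : IsPullback (f.fiberι s) (f.fiberToSpecResidueField s) f (S.fromSpecResidueField s) :=
      IsPullback.of_hasPullback _ _
    exact (Ega3B.AcyclicBC.acyclicBC hF M hq hfl (subsingleton_HH f h hM hg)).1 p)
  letI := modB f M
  let e : Γ((Scheme.Modules.pushforward f).obj M, ⊤) ≃ₗ[Γ(S, ⊤)] Γ(M, ⊤) :=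
    { toFun := fun m => (show Γ(M, f ⁻¹ᵁ ⊤) from m)
      invFun := fun m => m
      left_inv := fun _ => rfl
      right_inv := fun _ => rfl
      map_add' := fun _ _ => rfl
      map_smul' := fun a m => by
        refine Eq.trans ?_ (modB_smul f M a _).symm
        rfl }
  exact Module.Finite.equiv e

section BaseChange

variable {T Y : Scheme.{u}} {b : T ⟶ S} {g : Y ⟶ X} {iY : Y ⟶ T} (H : IsPullback g iY f b) [IsAffine T]

theorem sec_top {X Y : Scheme.{u}} (g : Y ⟶ X) (M : X.Modules) (m : Γ(M, ⊤)) :
    VarietyB.PullSec.sec g M (show (⊤ : Y.Opens) ≤ g ⁻¹ᵁ (⊤ : X.Opens) from le_top) m = pullTop g m := by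
  change res ((Scheme.Modules.pullback g).obj M) (le_top : (⊤ : Y.Opens) ≤ ⊤) (pullTop g m) = pullTop g m
  rw [res_refl]

include h hM hg H in
/-- Sections of the base change are combinations of pulled back sections. -/
theorem mem_span_pullTop (v : Γ((Scheme.Modules.pullback g).obj M, ⊤)) :
    letI := modB iY ((Scheme.Modules.pullback g).obj M)
    v ∈ Submodule.span Γ(T, ⊤) (Set.range fun m : Γ(M, ⊤) => pullTop g m) := by
  have hq := Ega2.QCohLocal.isQCoh_of_isInvertible hM
  have hfl := Models2.FibreFreeSch.isFlatOver_of_isInvertible f hM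
  have h1 := (Ega3B.AcyclicBC.acyclicBC H M hq hfl (subsingleton_HH f h hM hg)).2.1.span_eq_top
  letI := modB iY ((Scheme.Modules.pullback g).obj M)
  have h2 : (Set.range fun m : Γ(M, ⊤) => pullTop g m) =
      Set.range (VarietyB.PullSec.sec g M (show (⊤ : Y.Opens) ≤ g ⁻¹ᵁ (⊤ : X.Opens) from le_top)) := by
    congr 1
    funext m
    exact (sec_top g M m).symm
  rw [h2]
  exact (Submodule.eq_top_iff'.1 h1) v

include h hM hg H in
/-- If sections `u_j` generate the sections of a base change to a field then they generate up to a function which is not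
zero there. -/
theorem exists_smul_mem (hT : IsField Γ(T, ⊤)) {ι : Type*} (u : ι → Γ(M, ⊤))
    (hu : ∀ v : Γ((Scheme.Modules.pullback g).obj M, ⊤),
      letI := modB iY ((Scheme.Modules.pullback g).obj M)
      v ∈ Submodule.span Γ(T, ⊤) (Set.range fun i => pullTop g (u i))) :
    ∃ a : Γ(S, ⊤), b.appTop a ≠ 0 ∧ ∀ m : Γ(M, ⊤), letI := modB f M; a • m ∈ Submodule.span Γ(S, ⊤) (Set.range u) := by
  have hq := Ega2.QCohLocal.isQCoh_of_isInvertible hM
  have hfl := Models2.FibreFreeSch.isFlatOver_of_isInvertible f hM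
  have h1 := (Ega3B.AcyclicBC.acyclicBC H M hq hfl (subsingleton_HH f h hM hg)).2.1
  letI i0 := algOver b (US := ⊤) (UT := ⊤) le_top
  letI i1 := modB f M
  letI i2 := modB iY ((Scheme.Modules.pullback g).obj M)
  haveI := finite_sec f h hM hg
  obtain ⟨a, ha, h2⟩ := exists_smul_mem_span hT
    (secS H.w M (US := ⊤) (UT := ⊤) le_top (UX := ⊤) le_top (UY := ⊤) le_top le_top) h1.1 u (by
      intro m
      have h3 := hu (pullTop g m)
      have h4 : ∀ m' : Γ(M, ⊤), secS H.w M (US := ⊤) (UT := ⊤) le_top (UX := ⊤) le_top (UY := ⊤) le_top le_top m' =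
        pullTop g m' := fun m' => sec_top g M m'
      rw [h4]
      simp only [h4]
      exact h3)
  refine ⟨a, ?_, h2⟩
  rw [← appLE_top]
  exact ha

end BaseChange

end Main

end K247.ConCoh
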