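import Groth.Agent.Fano.K247.ConH
import Groth.Agent.Fano.K876.ConC
import Groth.Agent.Fano.K666.ConG

/-!
# Node D3: stable families of genus `0` and degree `2` are locally families of maps from conics
-/

set_option autoImplicit false
set_option linter.style.haveILetI false

universe u

open CategoryTheory CategoryTheory.Limits AlgebraicGeometry

namespace K247.ConD3

open K390.PnSec Groth.Agent.Fdesc.LocGen Groth.Agent.Dix.ProjProper K188.LineDef K745.ConDef

variable {k : Type u} [Field k] {n : ℕ}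

theorem nodeK5c : K247.ConGood.NodeK5c.{u} := by
  intro Ω _ _ _ C q c L x h hn
  haveI : NeZero (2 : Ω) := ⟨two_ne_zero⟩
  exact K876.ConC.exists_disc3_ne_zero Ω q c x h hn

theorem nodeD2 : K247.ConGood.NodeD2 k n := by
  intro Ω _ _ _ C q p μ a ha h hdeg
  exact K666.ConG.exists_isCon_of_isStableMap Ω q p μ a ha h hdeg

/-- **Node D3**: a stable family of genus `0` and degree `2` is, locally on the base, a family of maps from conics. -/
theorem exists_isCon_nhds [CharZero k] {T C : Scheme.{u}} (qT : T ⟶ Spec (CommRingCat.of k)) (f : C ⟶ T)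
    (μ : C ⟶ CohB1.ProjSpace n k) (hμ : μ ≫ CohB1.ProjSpace.toSpec n k = f ≫ qT)
    (hst : StMap.IsStableMapFam f (Fin.elim0 : Fin 0 → (T ⟶ C)) (fun i => i.elim0) μ 0)
    (hdeg : StMap.IsFibDeg f μ (O1 n k) 2) (t : T) :
    ∃ (W : T.Opens) (_ : t ∈ W) (c : Fin 5 → Γ(W, ⊤)) (φ : Fin (n + 1) → Fin 3 → Γ(W, ⊤))
      (L : (f ⁻¹ᵁ W).toScheme.Modules) (x : Fin 3 → Γ(L, ⊤)),
      IsCon c (f ∣_ W) L x ∧ Reg c φ ∧ GivenBy ((f ⁻¹ᵁ W).ι ≫ μ) L (msec (f ∣_ W) x φ) :=
  K247.ConH.exists_isCon_nhds_aux nodeK5c nodeD2 qT f μ hμ hst hdeg t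

end K247.ConD3
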