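import Groth.Agent.Fano.K247.ConQuad
import Groth.Agent.Fano.K247.ConCoh
import Groth.Agent.S7637
import Groth.Agent.CurvesC.CurveCoh
import Groth.Agent.CurvesB.HZero

/-!
# Conics over an algebraically closed field: products of sections

`exists_matrix_field`: on a conic, if three sections `y` span `Γ(L)`, then after an integral change of coordinates the five
products different from `x_0²` span `Γ(L ⊗ L)`.
-/

set_option autoImplicit false
set_option linter.style.haveILetI false

universe u

open CategoryTheory CategoryTheory.Limits AlgebraicGeometry TopologicalSpace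

namespace K247.ConField

open K390.PnSec Groth.Agent.Fdesc.LocGen Groth.Agent.Dix.ProjProper K188.LineDef K745.ConDef K247.ConAlg
open K247.ConQuad K247.ConCoh Groth.Agent K924.ConI

section Scalars

variable {Ω : Type u} [Field Ω] {C : Scheme.{u}} (q : C ⟶ Spec (CommRingCat.of Ω))

/-- The constants. -/
noncomputable abbrev cst (Ω : Type u) [Field Ω] : Ω →+* Γ(Spec (CommRingCat.of Ω), ⊤) :=
  (Scheme.ΓSpecIso (CommRingCat.of Ω)).inv.hom

theorem cst_bijective (Ω : Type u) [Field Ω] : Function.Bijective (cst Ω) :=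
  ConcreteCategory.bijective_of_isIso (Scheme.ΓSpecIso (CommRingCat.of Ω)).inv

theorem isField_ΓSpec (Ω : Type u) [Field Ω] : IsField Γ(Spec (CommRingCat.of Ω), ⊤) :=
  MulEquiv.isField (Field.toIsField Ω) (RingEquiv.ofBijective (cst Ω) (cst_bijective Ω)).symm.toMulEquiv

/-- Sections as a vector space. -/
noncomputable abbrev modK (M : C.Modules) : Module Ω Γ(M, ⊤) :=
  letI : C.Over (Spec (CommRingCat.of Ω)) := ⟨q⟩
  CurvesB.HZero.moduleΓ Ω M

theorem modK_smul (M : C.Modules) (t : Ω) (m : Γ(M, ⊤)) :
    (letI := modK q M; t • m) = q.appTop (cst Ω t) • m := rfl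

theorem mem_span_iff (M : C.Modules) (s : Set Γ(M, ⊤)) (v : Γ(M, ⊤)) :
    (letI := modK q M; v ∈ Submodule.span Ω s) ↔
      (letI := modB q M; v ∈ Submodule.span Γ(Spec (CommRingCat.of Ω), ⊤) s) := by
  letI i1 := modK q M
  letI i2 := modB q M
  have key : ∀ (t : Ω) (m : Γ(M, ⊤)), t • m = cst Ω t • m := fun t m => by
    rw [modB_smul]
    rfl
  constructor
  · intro h
    induction h using Submodule.span_induction with
    | mem x hx => exact Submodule.subset_span hx
    | zero => exact Submodule.zero_mem _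
    | add x y _ _ hx hy => exact Submodule.add_mem _ hx hy
    | smul a x _ hx =>
      rw [key]
      exact Submodule.smul_mem _ _ hx
  · intro h
    induction h using Submodule.span_induction with
    | mem x hx => exact Submodule.subset_span hx
    | zero => exact Submodule.zero_mem _
    | add x y _ _ hx hy => exact Submodule.add_mem _ hx hy
    | smul a x _ hx =>
      obtain ⟨t, rfl⟩ := (cst_bijective Ω).2 a
      rw [← key]
      exact Submodule.smul_mem _ _ hx

end Scalars

section Count

variable {Ω : Type u} [Field Ω] {C : Scheme.{u}} {q : C ⟶ Spec (CommRingCat.of Ω)} {L : C.Modules}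
  {c : Fin 5 → Γ(Spec (CommRingCat.of Ω), ⊤)} {x : Fin 3 → Γ(L, ⊤)}

/-- `h⁰(L) = 3`. -/
theorem finrank_sec (K4a : NodeK4a.{u}) (h : IsCon c q L x) :
    letI := modK q L
    Module.finrank Ω Γ(L, ⊤) = 3 := by
  letI := modK q L
  have hlin : ∀ a : Fin 3 → Ω, Fintype.linearCombination Ω x a = ∑ i, (q.appTop (cst Ω (a i))) • x i := fun a => by
    rw [Fintype.linearCombination_apply]
    rfl
  have hb : Function.Bijective (Fintype.linearCombination Ω x) := by
    constructor
    · intro a b hab
      rw [hlin, hlin] at hab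
      have h1 := (K4a h (∑ i, (q.appTop (cst Ω (a i))) • x i)).unique rfl hab
      funext i
      exact (cst_bijective Ω).1 (congrFun h1 i)
    · intro s
      obtain ⟨a, ha, -⟩ := K4a h s
      choose b hb using fun i => (cst_bijective Ω).2 (a i)
      refine ⟨b, ?_⟩
      rw [hlin, ha]
      simp only [hb]
  have h1 := (LinearEquiv.ofBijective _ hb).finrank_eq
  rw [← h1, Module.finrank_fin_fun]

/-- `h⁰(L ⊗ L) = 5`. -/
theorem finrank_tensor [IsProper q] (K4a : NodeK4a.{u}) (hrat : RatFib q) (hdim : topologicalKrullDim C = 1)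
    (hdeg : letI : C.Over (Spec (CommRingCat.of Ω)) := ⟨q⟩; Curv2.deg Ω C L 1 = 2) (h : IsCon c q L x) :
    letI := modK q (CohB1.tensorMod L L)
    Module.finrank Ω Γ(CohB1.tensorMod L L, ⊤) = 5 := by
  letI : C.Over (Spec (CommRingCat.of Ω)) := ⟨q⟩
  haveI : IsProper (C ↘ Spec (CommRingCat.of Ω)) := ‹IsProper q›
  have hL := K924.ConVan.isInvertible h
  have hLL := isInvertible_tensorMod hL hL
  have hg := isGloballyGenerated_of_gens (K924.ConVan.gens h)
  have hgg := isGloballyGenerated_tensor (K924.ConVan.gens h)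
  have h1 := S7637.result Ω C hdim.le 1 1 L L (Ega2.QCohLocal.isFinLocFreeOfRank_one_iff.2 hL)
    (Ega2.QCohLocal.isFinLocFreeOfRank_one_iff.2 hL)
  have e1 := CurvesC.CurveCoh.euler_eq Ω C hdim L
  have e2 := CurvesC.CurveCoh.euler_eq Ω C hdim (CohB1.tensorMod L L)
  have s1 : Subsingleton (Coh.HH C L 1) := subsingleton_HH q hrat hL hg 0
  have s2 : Subsingleton (Coh.HH C (CohB1.tensorMod L L) 1) := subsingleton_HH q hrat hLL hgg 0
  have f1 : Module.finrank Ω (Coh.HH C L 0) = 3 := by
    letI := modK q L
    rw [(CurvesB.HZero.equivLin Ω L).finrank_eq]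
    exact finrank_sec K4a h
  rw [f1, Module.finrank_zero_of_subsingleton] at e1
  rw [Module.finrank_zero_of_subsingleton (M := Coh.HH C (CohB1.tensorMod L L) 1)] at e2
  have h2 : Curv2.deg Ω C L 1 = 2 := hdeg
  rw [h2] at h1
  unfold Curv2.deg at h1 h2
  rw [e2] at h1
  rw [e1] at h2
  letI := modK q (CohB1.tensorMod L L)
  rw [← (CurvesB.HZero.equivLin Ω (CohB1.tensorMod L L)).finrank_eq]
  push_cast at h1 h2
  have h3 : (Module.finrank Ω (Coh.HH C (CohB1.tensorMod L L) 0) : ℤ) = 5 := by linarith
  exact_mod_cast h3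

/-- The five products different from `x_0²` form a basis of `Γ(L ⊗ L)`. -/
theorem span_mon5_of_isCon [IsProper q] (K4a : NodeK4a.{u}) (K4b : NodeK4b.{u}) (hrat : RatFib q)
    (hdim : topologicalKrullDim C = 1)
    (hdeg : letI : C.Over (Spec (CommRingCat.of Ω)) := ⟨q⟩; Curv2.deg Ω C L 1 = 2) (h : IsCon c q L x) :
    letI := modK q (CohB1.tensorMod L L)
    Submodule.span Ω (Set.range (mon5 (β L) x)) = ⊤ := by
  letI := modK q (CohB1.tensorMod L L)
  have hfin := finrank_tensor K4a hrat hdim hdeg h
  have hli : LinearIndependent Ω (mon5 (β L) x) := by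
    rw [Fintype.linearIndependent_iff]
    intro a ha
    have h1 : Van q x (q6 (Fin.cons 0 fun i => cst Ω (a i))) := by
      rw [van_q6_iff q (K924.ConVan.isInvertible h), Fin.sum_univ_succ]
      simp only [Fin.cons_zero, Fin.cons_succ, map_zero, zero_smul, zero_add, m6_succ]
      exact ha
    rw [K4b h _ (isHomogeneous_q6 _)] at h1
    haveI : IsDomain Γ(Spec (CommRingCat.of Ω), ⊤) := (isField_ΓSpec Ω).isDomain
    have h2 := eq_zero_of_dvd c (by simp) h1
    intro i
    have h3 := congrFun h2 i.succ
    simp only [Fin.cons_succ, Pi.zero_apply] at h3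
    exact (cst_bijective Ω).1 (h3.trans (map_zero _).symm)
  haveI : Module.Finite Ω Γ(CohB1.tensorMod L L, ⊤) := Module.finite_of_finrank_pos (by rw [hfin]; norm_num)
  exact hli.span_eq_top_of_card_eq_finrank (by rw [hfin]; rfl)

/-- After an integral change of coordinates the five products different from `x_0²` span. -/
theorem exists_matrix_field [IsProper q] (K4a : NodeK4a.{u}) (K4b : NodeK4b.{u}) (hrat : RatFib q)
    (hdim : topologicalKrullDim C = 1)
    (hdeg : letI : C.Over (Spec (CommRingCat.of Ω)) := ⟨q⟩; Curv2.deg Ω C L 1 = 2) (h : IsCon c q L x)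
    (y : Fin 3 → Γ(L, ⊤)) (hy : ∀ v, letI := modK q L; v ∈ Submodule.span Ω (Set.range y)) :
    ∃ P Q : Matrix (Fin 3) (Fin 3) ℤ, Q * P = 1 ∧ ∀ w : Γ(CohB1.tensorMod L L, ⊤),
      letI := modK q (CohB1.tensorMod L L)
      w ∈ Submodule.span Ω (Set.range (mon5 (β L) fun i => ∑ j, P i j • y j)) := by
  letI i1 := modK q L
  letI i2 := modK q (CohB1.tensorMod L L)
  have hL := K924.ConVan.isInvertible h
  have hfin := finrank_tensor K4a hrat hdim hdeg h
  have hsp := span_mon5_of_isCon K4a K4b hrat hdim hdeg h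
  -- products of combinations
  have hβ1 : ∀ (t : Ω) (m n : Γ(L, ⊤)), β L (t • m) n = t • β L m n := fun t m n => smul_tmul _ _ _
  have hβ2 : ∀ (t : Ω) (m n : Γ(L, ⊤)), β L m (t • n) = t • β L m n := fun t m n => tmul_smul _ _ _
  let S : Submodule Ω Γ(CohB1.tensorMod L L, ⊤) :=
    Submodule.span Ω (Set.range fun p : Fin 3 × Fin 3 => β L (y p.1) (y p.2))
  have hS : ∀ m n : Γ(L, ⊤), β L m n ∈ S := by
    intro m n
    have hm := hy m
    have hn := hy n
    induction hm using Submodule.span_induction with
    | mem m hm =>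
      obtain ⟨i, rfl⟩ := hm
      induction hn using Submodule.span_induction with
      | mem n hn =>
        obtain ⟨j, rfl⟩ := hn
        exact Submodule.subset_span ⟨(i, j), rfl⟩
      | zero =>
        rw [map_zero]
        exact Submodule.zero_mem _
      | add a b _ _ ha hb =>
        rw [map_add]
        exact Submodule.add_mem _ ha hb
      | smul t a _ ha =>
        rw [hβ2]
        exact Submodule.smul_mem _ _ ha
    | zero =>
      rw [map_zero, AddMonoidHom.zero_apply]
      exact Submodule.zero_mem _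
    | add a b _ _ ha hb =>
      rw [map_add, AddMonoidHom.add_apply]
      exact Submodule.add_mem _ ha hb
    | smul t a _ ha =>
      rw [hβ1]
      exact Submodule.smul_mem _ _ ha
  have hspan : ∀ w : Γ(CohB1.tensorMod L L, ⊤), w ∈ S := by
    intro w
    have hw : w ∈ Submodule.span Ω (Set.range (mon5 (β L) x)) := by
      rw [hsp]
      trivial
    refine (Submodule.span_le.2 ?_) hw
    rintro _ ⟨k, rfl⟩
    fin_cases k
    · exact hS _ _
    · exact hS _ _
    · exact hS _ _
    · exact hS _ _
    · exact hS _ _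
  -- a relation between the six products
  haveI : Module.Finite Ω Γ(CohB1.tensorMod L L, ⊤) := Module.finite_of_finrank_pos (by rw [hfin]; norm_num)
  have hdep : ¬ LinearIndependent Ω (m6 y) := by
    intro hli
    have h1 := hli.fintype_card_le_finrank
    rw [hfin, Fintype.card_fin] at h1
    omega
  rw [Fintype.not_linearIndependent_iff] at hdep
  obtain ⟨a, ha, i, hi⟩ := hdep
  rw [Fin.sum_univ_six] at ha
  exact exists_matrix (β L) (β_comm hL) y hspan a (fun h0 => hi (congrFun h0 i)) ha

end Count

end K247.ConField
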