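import Groth.Agent.Fano.K247.ConRel
import Groth.Agent.Fano.K949.ConB

/-!
# Families of maps from conics, locally on the base

* `Good f μ t`: near `t` the family `f` with the map `μ` to projective space is a family of maps from conics with `Reg`;
* `Good.comp`, `Good.exists_opens`: restriction, and the form with opens;
* `Fam f μ`: stable families of genus `0` and degree `2`, in a form stable under base change;
* `exists_reg`: a stable family whose source is a conic is given by a regular pair.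
-/

set_option autoImplicit false
set_option linter.style.haveILetI false

universe u

open CategoryTheory CategoryTheory.Limits AlgebraicGeometry TopologicalSpace

namespace K247.ConGood

open K390.PnSec Groth.Agent.Fdesc.LocGen Groth.Agent.Dix.ProjProper K188.LineDef K745.ConDef
open Groth.Agent

variable {k : Type u} [Field k] {n : ℕ}

/-- Node K5c (characteristic zero), as a hypothesis. -/
def NodeK5c : Prop := ∀ (Ω : Type u) [Field Ω] [IsAlgClosed Ω] [CharZero Ω] {C : Scheme.{u}}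
    (q : C ⟶ Spec (CommRingCat.of Ω)) (c : Fin 5 → Γ(Spec (CommRingCat.of Ω), ⊤)) {L : C.Modules} (x : Fin 3 → Γ(L, ⊤))
    (_ : IsCon c q L x) (_ : letI : C.Over (Spec (CommRingCat.of Ω)) := ⟨q⟩; Curv2.AtWorstNodal Ω C),
    ∃ i, disc3 c i ≠ 0

/-- Node D2 (characteristic zero), as a hypothesis. -/
def NodeD2 (k : Type u) [Field k] (n : ℕ) : Prop := ∀ (Ω : Type u) [Field Ω] [IsAlgClosed Ω] [CharZero Ω]
    {C : Scheme.{u}} (q : C ⟶ Spec (CommRingCat.of Ω)) (p : Fin 0 → C) (μ : C ⟶ CohB1.ProjSpace n k)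
    (a : Spec (CommRingCat.of Ω) ⟶ Spec (CommRingCat.of k)) (_ : μ ≫ CohB1.ProjSpace.toSpec n k = q ≫ a)
    (_ : StMap.IsStableMap Ω C q 0 p μ)
    (_ : letI : C.Over (Spec (CommRingCat.of Ω)) := ⟨q⟩
      Curv2.deg Ω C ((Scheme.Modules.pullback μ).obj (O1 n k)) 1 = 2),
    ∃ (c : Fin 5 → Γ(Spec (CommRingCat.of Ω), ⊤)) (x : Fin 3 → Γ((Scheme.Modules.pullback μ).obj (O1 n k), ⊤)),
      IsCon c q ((Scheme.Modules.pullback μ).obj (O1 n k)) x

theorem charZero_of_hom [CharZero k] (Ω : Type u) [Field Ω] (a : Spec (CommRingCat.of Ω) ⟶ Spec (CommRingCat.of k)) :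
    CharZero Ω :=
  charZero_of_injective_ringHom (f := (Spec.preimage a).hom) (Spec.preimage a).hom.injective

/-- Stable families of genus `0` and degree `2` without marked points. -/
structure Fam {T C : Scheme.{u}} (f : C ⟶ T) (μ : C ⟶ CohB1.ProjSpace n k) : Prop where
  flat : Flat f
  proper : IsProper f
  lfp : LocallyOfFinitePresentation f
  st : ∀ (Ω : Type u) [Field Ω] [IsAlgClosed Ω] (b : Spec (CommRingCat.of Ω) ⟶ T) (Y : Scheme.{u}) (g : Y ⟶ C)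
    (q : Y ⟶ Spec (CommRingCat.of Ω)), IsPullback g q f b →
      StMap.IsStableMap Ω Y q 0 (fun i : Fin 0 => i.elim0) (g ≫ μ)
  deg : StMap.IsFibDeg f μ (O1 n k) 2

theorem Fam.of_isStableMapFam {T C : Scheme.{u}} {f : C ⟶ T} {μ : C ⟶ CohB1.ProjSpace n k}
    (hst : StMap.IsStableMapFam f (Fin.elim0 : Fin 0 → (T ⟶ C)) (fun i => i.elim0) μ 0)
    (hdeg : StMap.IsFibDeg f μ (O1 n k) 2) : Fam f μ := by
  obtain ⟨h1, h2, h3, h4⟩ := hst
  refine ⟨h1, h2, h3, fun Ω _ _ b Y g q H => ?_, hdeg⟩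
  have h5 := h4 Ω b Y g q H
  have h6 : (fun i : Fin 0 => (i.elim0 : Y)) =
      CurvSt.markedPt (Fin.elim0 : Fin 0 → (T ⟶ C)) (fun i => i.elim0) H := by
    funext i
    exact i.elim0
  rw [h6]
  exact h5

theorem Fam.pullback {T C T₁ C₁ : Scheme.{u}} {f : C ⟶ T} {μ : C ⟶ CohB1.ProjSpace n k} (h : Fam f μ) {j : T₁ ⟶ T}
    {i : C₁ ⟶ C} {f₁ : C₁ ⟶ T₁} (H : IsPullback i f₁ f j) : Fam f₁ (i ≫ μ) where
  flat := MorphismProperty.of_isPullback (P := @Flat) H h.flat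
  proper := MorphismProperty.of_isPullback (P := @IsProper) H h.proper
  lfp := MorphismProperty.of_isPullback (P := @LocallyOfFinitePresentation) H h.lfp
  st Ω _ _ b Y g q H' := by
    have h1 := h.st Ω (b ≫ j) Y (g ≫ i) q (H'.paste_horiz H)
    rwa [Category.assoc] at h1
  deg Ω _ _ b Y g q H' := by
    have h1 := h.deg Ω (b ≫ j) Y (g ≫ i) q (H'.paste_horiz H)
    rwa [Category.assoc] at h1

section DataPullback

variable {T T' C C' : Scheme.{u}} {c : Fin 5 → Γ(T, ⊤)} {φ : Fin (n + 1) → Fin 3 → Γ(T, ⊤)} {f : C ⟶ T} {L : C.Modules}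
  {x : Fin 3 → Γ(L, ⊤)} {μ : C ⟶ CohB1.ProjSpace n k} {r : C' ⟶ C} {f' : C' ⟶ T'} {e : T' ⟶ T}

theorem reg_pullback (e : T' ⟶ T) (h : Reg c φ) : Reg (fun j => e.appTop (c j)) (fun l j => e.appTop (φ l j)) := by
  unfold Reg at h ⊢
  have h1 : ∀ i, T'.basicOpen (regPoly (fun j => e.appTop (c j)) (fun l j => e.appTop (φ l j)) i) =
      e ⁻¹ᵁ T.basicOpen (regPoly c φ i) := by
    intro i
    rw [Scheme.preimage_basicOpen]
    congr 1
    exact (K398.ConAlg.regPoly_map e.appTop.hom c φ i).symm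
  simp only [h1]
  rw [← Scheme.Hom.preimage_iSup, h]
  rfl

theorem msec_comp (f' : C' ⟶ T') (e : T' ⟶ T) {M : C'.Modules} (y : Fin 3 → Γ(M, ⊤)) :
    msec (f' ≫ e) y φ = msec f' y (fun l j => e.appTop (φ l j)) := by
  funext l
  unfold msec
  rw [Scheme.Hom.comp_appTop]
  rfl

theorem givenBy_pullback (hg : GivenBy μ L (msec f x φ)) (hw : r ≫ f = f' ≫ e) :
    GivenBy (r ≫ μ) ((Scheme.Modules.pullback r).obj L)
      (msec f' (fun j => pullTop r (x j)) (fun l j => e.appTop (φ l j))) := by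
  have h1 := hg.comp r
  have h2 : (fun l => pullTop r (msec f x φ l)) =
      msec f' (fun j => pullTop r (x j)) (fun l j => e.appTop (φ l j)) := by
    rw [← msec_comp, ← hw]
    funext l
    exact K398.ConGen.pullTop_msec r φ l
  rwa [h2] at h1

end DataPullback

/-- Near `t`, the family is a family of maps from conics. -/
def Good {T C : Scheme.{u}} (f : C ⟶ T) (μ : C ⟶ CohB1.ProjSpace n k) (t : T) : Prop :=
  ∃ (T' C' : Scheme.{u}) (j : T' ⟶ T) (i : C' ⟶ C) (f' : C' ⟶ T') (c : Fin 5 → Γ(T', ⊤))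
    (φ : Fin (n + 1) → Fin 3 → Γ(T', ⊤)) (L : C'.Modules) (x : Fin 3 → Γ(L, ⊤)),
    IsOpenImmersion j ∧ t ∈ Set.range j ∧ IsPullback i f' f j ∧ IsCon c f' L x ∧ Reg c φ ∧
      GivenBy (i ≫ μ) L (msec f' x φ)

theorem Good.comp {T C T₁ C₁ : Scheme.{u}} {f : C ⟶ T} {μ : C ⟶ CohB1.ProjSpace n k} {j : T₁ ⟶ T}
    [IsOpenImmersion j] {i : C₁ ⟶ C} {f₁ : C₁ ⟶ T₁} (H : IsPullback i f₁ f j) {t₁ : T₁} (h : Good f₁ (i ≫ μ) t₁) :
    Good f μ (j t₁) := by
  obtain ⟨T', C', j', i', f', c, φ, L, x, h1, ⟨t', rfl⟩, h3, h4, h5, h6⟩ := h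
  refine ⟨T', C', j' ≫ j, i' ≫ i, f', c, φ, L, x, inferInstance, ⟨t', ?_⟩, h3.paste_horiz H, h4, h5, ?_⟩
  · rw [Scheme.Hom.comp_apply]
  · rwa [Category.assoc]

theorem Good.exists_opens {T C : Scheme.{u}} {f : C ⟶ T} {μ : C ⟶ CohB1.ProjSpace n k} {t : T} (h : Good f μ t) :
    ∃ (W : T.Opens) (_ : t ∈ W) (c : Fin 5 → Γ(W, ⊤)) (φ : Fin (n + 1) → Fin 3 → Γ(W, ⊤))
      (L : (f ⁻¹ᵁ W).toScheme.Modules) (x : Fin 3 → Γ(L, ⊤)),
      IsCon c (f ∣_ W) L x ∧ Reg c φ ∧ GivenBy ((f ⁻¹ᵁ W).ι ≫ μ) L (msec (f ∣_ W) x φ) := by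
  obtain ⟨T', C', j, i, f', c, φ, L, x, h1, ⟨t', rfl⟩, h3, h4, h5, h6⟩ := h
  let W : T.Opens := j.opensRange
  let e : W.toScheme ⟶ T' := j.isoOpensRange.inv
  have he : e ≫ j = W.ι := j.isoOpensRange_inv_comp
  have hW : IsPullback (f ⁻¹ᵁ W).ι (f ∣_ W) f W.ι := (isPullback_morphismRestrict f W).flip
  have hw : (f ⁻¹ᵁ W).ι ≫ f = ((f ∣_ W) ≫ e) ≫ j := by
    rw [Category.assoc, he]
    exact hW.w
  let r : (f ⁻¹ᵁ W).toScheme ⟶ C' := h3.lift (f ⁻¹ᵁ W).ι ((f ∣_ W) ≫ e) hw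
  have hr1 : r ≫ i = (f ⁻¹ᵁ W).ι := h3.lift_fst _ _ _
  have hr2 : r ≫ f' = (f ∣_ W) ≫ e := h3.lift_snd _ _ _
  have hP : IsPullback r (f ∣_ W) f' e := by
    refine IsPullback.of_right ?_ hr2 h3
    rw [hr1, he]
    exact hW
  refine ⟨W, ⟨t', rfl⟩, _, _, _, _, K123.ConA.isCon_pullback h4 hP, reg_pullback e h5, ?_⟩
  have h7 := givenBy_pullback h6 hr2
  rw [← Category.assoc, hr1] at h7
  exact h7

/-- A stable family whose source is a conic is given by a regular pair. -/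
theorem exists_reg [CharZero k] (K5c : NodeK5c.{u}) {T C : Scheme.{u}} {c : Fin 5 → Γ(T, ⊤)} {f : C ⟶ T}
    {L : C.Modules} {x : Fin 3 → Γ(L, ⊤)} (h : IsCon c f L x) {μ : C ⟶ CohB1.ProjSpace n k} (hF : Fam f μ)
    (qT : T ⟶ Spec (CommRingCat.of k)) {s : Fin (n + 1) → Γ(L, ⊤)} (hs : GivenBy μ L s) :
    ∃ φ : Fin (n + 1) → Fin 3 → Γ(T, ⊤), Reg c φ ∧ GivenBy μ L (msec f x φ) := by
  choose φ hφ _ using fun l => K949.ConB.existsUnique_sec h (s l)
  have h1 : msec f x φ = s := funext fun l => (hφ l).symm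
  have h2 : GivenBy μ L (msec f x φ) := by rwa [h1]
  refine ⟨φ, ?_, h2⟩
  have h3 : ⨆ i, T.basicOpen (bpf c φ i) = ⊤ := (K398.ConGen.gens_msec_iff h φ).1 h2.iSup_genLocus
  unfold Reg
  rw [eq_top_iff]
  intro t _
  obtain ⟨j, hj⟩ := Opens.mem_iSup.1 (h3.ge (show t ∈ (⊤ : T.Opens) from trivial))
  let Ω : Type u := AlgebraicClosure (T.residueField t)
  let b : Spec (CommRingCat.of Ω) ⟶ T :=
    Spec.map (CommRingCat.ofHom (algebraMap (T.residueField t) Ω)) ≫ T.fromSpecResidueField t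
  have hb : b (IsLocalRing.closedPoint Ω) = t := by
    rw [Scheme.Hom.comp_apply]
    exact Scheme.fromSpecResidueField_apply _ _
  have hP : IsPullback (pullback.fst f b) (pullback.snd f b) f b := IsPullback.of_hasPullback _ _
  haveI : CharZero Ω := charZero_of_hom Ω (b ≫ qT)
  obtain ⟨i, hi⟩ := K5c Ω _ _ _ (K123.ConA.isCon_pullback h hP) (hF.st Ω b _ _ _ hP).1.2.2.2.1.1
  have h4 : b.appTop (disc3 c i) ≠ 0 := by
    have h5 : b.appTop (disc3 c i) = disc3 (fun j => b.appTop (c j)) i := K398.ConAlg.disc3_map b.appTop.hom c i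
    rw [h5]
    exact hi
  have h6 : t ∈ T.basicOpen (disc3 c i) := by
    rw [← hb]
    exact K247.ConRel.mem_basicOpen_of_ne_zero h4 _
  refine Opens.mem_iSup.2 ⟨(i, j), ?_⟩
  unfold regPoly
  rw [Scheme.basicOpen_mul]
  exact ⟨h6, hj⟩

end K247.ConGood
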