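import Groth.Agent.Fano.K247.ConGood
import Groth.Agent.CurvesC.DegIso

/-!
# Stable families of genus `0` and degree `2` are locally families of maps from conics (CON-H, node D3)

* `good_of_fib`: near a geometric fibre which is a conic;
* `exists_isCon_nhds_aux`: node D3, from the nodes K5c and D2 over algebraically closed fields of characteristic zero.
-/

set_option autoImplicit false
set_option linter.style.haveILetI false

universe u

open CategoryTheory CategoryTheory.Limits AlgebraicGeometry TopologicalSpace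

namespace K247.ConH

open K390.PnSec Groth.Agent.Fdesc.LocGen Groth.Agent.Dix.ProjProper K188.LineDef K745.ConDef
open K247.ConCoh K247.ConField K247.ConIso K247.ConRel K247.ConGood Groth.Agent

variable {k : Type u} [Field k] {n : ℕ}

theorem nodeK3 : NodeK3.{u} := fun h => K949.ConB.flat_isProper h

theorem nodeK4a : K924.ConI.NodeK4a.{u} := fun h s => K949.ConB.existsUnique_sec h s

theorem nodeK4b : K924.ConI.NodeK4b.{u} := fun h _ F hF => K949.ConB.van_iff_dvd h F hF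

theorem Fam.ratFib {T C : Scheme.{u}} {f : C ⟶ T} {μ : C ⟶ CohB1.ProjSpace n k} (hF : Fam f μ) : RatFib f := by
  haveI := hF.proper
  refine ratFib_of_geom f fun Ω _ _ t Xt i q H => ?_
  obtain ⟨⟨-, -, h1, ⟨-, h2⟩, -⟩, -⟩ := hF.st Ω t Xt i q H
  exact ⟨h1, h2⟩

/-- Transfer of spanning sections along a composition of pull backs. -/
theorem transfer {C C₁ Y T : Scheme.{u}} {q : Y ⟶ T} {L : C.Modules} {g₁ : Y ⟶ C₁} {i₁ : C₁ ⟶ C}
    {x : Fin 3 → Γ(L, ⊤)}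
    (hspan : ∀ v, letI := modB q ((Scheme.Modules.pullback (g₁ ≫ i₁)).obj L)
      v ∈ Submodule.span Γ(T, ⊤) (Set.range fun i => pullTop (g₁ ≫ i₁) (x i))) :
    ∀ v, letI := modB q ((Scheme.Modules.pullback g₁).obj ((Scheme.Modules.pullback i₁).obj L))
      v ∈ Submodule.span Γ(T, ⊤) (Set.range fun i => pullTop g₁ (pullTop i₁ (x i))) := by
  intro v
  let e : (Scheme.Modules.pullback (g₁ ≫ i₁)).obj L ≅
      (Scheme.Modules.pullback g₁).obj ((Scheme.Modules.pullback i₁).obj L) :=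
    (Scheme.Modules.pullbackComp g₁ i₁).symm.app L
  have h1 := app_mem_span q e.hom _ _ (hspan (e.inv.app ⊤ v))
  have h2 : e.hom.app ⊤ (e.inv.app ⊤ v) = v := congr(($(e.inv_hom_id).app ⊤) v)
  have h3 : ∀ i, e.hom.app ⊤ (pullTop (g₁ ≫ i₁) (x i)) = pullTop g₁ (pullTop i₁ (x i)) := fun i =>
    pullSec_comp g₁ i₁ (x i)
  rw [h2] at h1
  simp only [h3] at h1
  exact h1

theorem isCon_transfer {C C₁ Y T : Scheme.{u}} {q : Y ⟶ T} {L : C.Modules} {g₁ : Y ⟶ C₁} {i₁ : C₁ ⟶ C}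
    {c : Fin 5 → Γ(T, ⊤)} {x' : Fin 3 → Γ((Scheme.Modules.pullback (g₁ ≫ i₁)).obj L, ⊤)}
    (h : IsCon c q ((Scheme.Modules.pullback (g₁ ≫ i₁)).obj L) x') :
    ∃ x'' : Fin 3 → Γ((Scheme.Modules.pullback g₁).obj ((Scheme.Modules.pullback i₁).obj L), ⊤),
      IsCon c q ((Scheme.Modules.pullback g₁).obj ((Scheme.Modules.pullback i₁).obj L)) x'' :=
  ⟨_, isCon_of_iso h ((Scheme.Modules.pullbackComp g₁ i₁).symm.app L) fun _ => rfl⟩

/-- A geometric point of an open. -/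
theorem exists_lift_pt {T : Scheme.{u}} {Ω : Type u} [Field Ω] (b : Spec (CommRingCat.of Ω) ⟶ T) (W : T.Opens)
    (h : b (IsLocalRing.closedPoint Ω) ∈ W) : ∃ b₁ : Spec (CommRingCat.of Ω) ⟶ W, b₁ ≫ W.ι = b := by
  refine exists_lift_of_preimage_eq_top b W ?_
  rw [eq_top_iff]
  intro p _
  have h1 : p = IsLocalRing.closedPoint Ω := Subsingleton.elim (α := PrimeSpectrum Ω) _ _
  rw [h1]
  exact h

/-- Near a geometric fibre which is a conic, a stable family is a family of maps from conics. -/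
theorem good_of_fib [CharZero k] (K5c : NodeK5c.{u}) {T C : Scheme.{u}} [IsAffine T] {f : C ⟶ T}
    {μ : C ⟶ CohB1.ProjSpace n k} (hF : Fam f μ) (qT : T ⟶ Spec (CommRingCat.of k)) {L : C.Modules}
    {s : Fin (n + 1) → Γ(L, ⊤)} (hs : GivenBy μ L s) (hL : PicF.IsInvertible L) {Ω : Type u} [Field Ω] [IsAlgClosed Ω]
    {b : Spec (CommRingCat.of Ω) ⟶ T} {Y : Scheme.{u}} {g : Y ⟶ C} {q : Y ⟶ Spec (CommRingCat.of Ω)}
    (H : IsPullback g q f b) {c' : Fin 5 → Γ(Spec (CommRingCat.of Ω), ⊤)}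
    {x' : Fin 3 → Γ((Scheme.Modules.pullback g).obj L, ⊤)} (hY : IsCon c' q ((Scheme.Modules.pullback g).obj L) x')
    (hdeg : letI : Y.Over (Spec (CommRingCat.of Ω)) := ⟨q⟩
      Curv2.deg Ω Y ((Scheme.Modules.pullback g).obj L) 1 = 2) :
    Good f μ (b (IsLocalRing.closedPoint Ω)) := by
  haveI := hF.proper
  haveI := hF.flat
  haveI := hF.lfp
  have hdim : topologicalKrullDim Y = 1 := (hF.st Ω b Y g q H).1.2.2.1
  obtain ⟨x, a, d, ha, hspan, hrel⟩ := exists_relation f hL hs.iSup_genLocus H hY nodeK4a nodeK4b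
    (Fam.ratFib hF) (Fam.ratFib (hF.pullback H)) hdim hdeg
  obtain ⟨W, hW, c, hx, hv⟩ := exists_opens_van f hL H hY nodeK4a ha hspan hrel
  -- restrict to `W`
  obtain ⟨b₁, rfl⟩ := exists_lift_pt b W hW
  have hP : IsPullback (f ⁻¹ᵁ W).ι (f ∣_ W) f W.ι := (isPullback_morphismRestrict f W).flip
  obtain ⟨g₁, rfl, hg₁⟩ : ∃ g₁ : Y ⟶ f ⁻¹ᵁ W, g₁ ≫ (f ⁻¹ᵁ W).ι = g ∧ g₁ ≫ (f ∣_ W) = q ≫ b₁ := by
    have hw : g ≫ f = (q ≫ b₁) ≫ W.ι := by
      rw [Category.assoc]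
      exact H.w
    exact ⟨hP.lift g (q ≫ b₁) hw, hP.lift_fst _ _ _, hP.lift_snd _ _ _⟩
  have H₁ : IsPullback g₁ q (f ∣_ W) b₁ := IsPullback.of_right H hg₁ hP
  have hF₁ : Fam (f ∣_ W) ((f ⁻¹ᵁ W).ι ≫ μ) := hF.pullback hP
  haveI := hF₁.proper
  haveI := hF₁.flat
  haveI := hF₁.lfp
  obtain ⟨x'', hY₁⟩ := isCon_transfer hY
  obtain ⟨U, hU, hcon⟩ := exists_opens_isCon (f ∣_ W) (isInvertible_pullback _ hL) hx hv H₁ hY₁ nodeK3 nodeK4a nodeK4b
    (transfer hspan)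
  -- restrict to `U`
  have hQ : IsPullback ((f ∣_ W) ⁻¹ᵁ U).ι ((f ∣_ W) ∣_ U) (f ∣_ W) U.ι := (isPullback_morphismRestrict (f ∣_ W) U).flip
  have hF₂ : Fam ((f ∣_ W) ∣_ U) (((f ∣_ W) ⁻¹ᵁ U).ι ≫ (f ⁻¹ᵁ W).ι ≫ μ) := hF₁.pullback hQ
  obtain ⟨φ, hφ, hgφ⟩ := exists_reg K5c hcon hF₂ (U.ι ≫ W.ι ≫ qT) ((hs.comp (f ⁻¹ᵁ W).ι).comp ((f ∣_ W) ⁻¹ᵁ U).ι)
  have h1 : Good (f ∣_ W) ((f ⁻¹ᵁ W).ι ≫ μ) (b₁ (IsLocalRing.closedPoint Ω)) :=
    ⟨_, _, U.ι, ((f ∣_ W) ⁻¹ᵁ U).ι, (f ∣_ W) ∣_ U, _, φ, _, _, inferInstance, ⟨⟨_, hU⟩, rfl⟩, hQ, hcon, hφ, hgφ⟩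
  have h2 := Good.comp hP h1
  rw [Scheme.Hom.comp_apply]
  exact h2

/-- The main step: over an affine base. -/
theorem good_of_isAffine [CharZero k] (K5c : NodeK5c.{u}) (D2 : NodeD2 k n) {T C : Scheme.{u}} [IsAffine T] {f : C ⟶ T}
    {μ : C ⟶ CohB1.ProjSpace n k} (hF : Fam f μ) (qT : T ⟶ Spec (CommRingCat.of k))
    (hμ : μ ≫ CohB1.ProjSpace.toSpec n k = f ≫ qT) (t : T) : Good f μ t := by
  let Ω : Type u := AlgebraicClosure (T.residueField t)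
  let b : Spec (CommRingCat.of Ω) ⟶ T :=
    Spec.map (CommRingCat.ofHom (algebraMap (T.residueField t) Ω)) ≫ T.fromSpecResidueField t
  have hb : b (IsLocalRing.closedPoint Ω) = t := by
    rw [Scheme.Hom.comp_apply]
    exact Scheme.fromSpecResidueField_apply _ _
  have H : IsPullback (pullback.fst f b) (pullback.snd f b) f b := IsPullback.of_hasPullback _ _
  haveI : CharZero Ω := charZero_of_hom Ω (b ≫ qT)
  have hw : (pullback.fst f b ≫ μ) ≫ CohB1.ProjSpace.toSpec n k = pullback.snd f b ≫ (b ≫ qT) := by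
    rw [Category.assoc, hμ, ← Category.assoc, H.w, Category.assoc]
  obtain ⟨c', x', hY⟩ := D2 Ω (pullback.snd f b) _ (pullback.fst f b ≫ μ) (b ≫ qT) hw (hF.st Ω b _ _ _ H)
    (hF.deg Ω b _ _ _ H)
  obtain ⟨x'', hY₁⟩ := isCon_transfer hY
  have hdeg : letI : (pullback f b).Over (Spec (CommRingCat.of Ω)) := ⟨pullback.snd f b⟩
      Curv2.deg Ω (pullback f b) ((Scheme.Modules.pullback (pullback.fst f b)).obj
        ((Scheme.Modules.pullback μ).obj (O1 n k))) 1 = 2 := by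
    letI : (pullback f b).Over (Spec (CommRingCat.of Ω)) := ⟨pullback.snd f b⟩
    have h1 := hF.deg Ω b _ _ _ H
    refine Eq.trans ?_ h1
    exact CurvesC.DegIso.deg_congr Ω ((Scheme.Modules.pullbackComp (pullback.fst f b) μ).app (O1 n k)) 1
  have h1 := good_of_fib K5c hF qT (GivenBy.refl μ) (isInvertible_pullback μ (isInvertible_O1 n k)) H hY₁ hdeg
  rwa [hb] at h1

/-- **Node D3**, from K5c and D2: a stable family of genus `0` and degree `2` is, locally on the base, a family of maps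
from conics. -/
theorem exists_isCon_nhds_aux [CharZero k] (K5c : NodeK5c.{u}) (D2 : NodeD2 k n) {T C : Scheme.{u}}
    (qT : T ⟶ Spec (CommRingCat.of k)) (f : C ⟶ T)
    (μ : C ⟶ CohB1.ProjSpace n k) (hμ : μ ≫ CohB1.ProjSpace.toSpec n k = f ≫ qT)
    (hst : StMap.IsStableMapFam f (Fin.elim0 : Fin 0 → (T ⟶ C)) (fun i => i.elim0) μ 0)
    (hdeg : StMap.IsFibDeg f μ (O1 n k) 2) (t : T) :
    ∃ (W : T.Opens) (_ : t ∈ W) (c : Fin 5 → Γ(W, ⊤)) (φ : Fin (n + 1) → Fin 3 → Γ(W, ⊤))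
      (L : (f ⁻¹ᵁ W).toScheme.Modules) (x : Fin 3 → Γ(L, ⊤)),
      IsCon c (f ∣_ W) L x ∧ Reg c φ ∧ GivenBy ((f ⁻¹ᵁ W).ι ≫ μ) L (msec (f ∣_ W) x φ) := by
  have hF := Fam.of_isStableMapFam hst hdeg
  obtain ⟨V, hV, ht, -⟩ := exists_isAffineOpen_mem_and_subset (X := T) (x := t) (U := ⊤) trivial
  haveI : IsAffine V.toScheme := hV
  have hP : IsPullback (f ⁻¹ᵁ V).ι (f ∣_ V) f V.ι := (isPullback_morphismRestrict f V).flip
  have h1 : Good (f ∣_ V) ((f ⁻¹ᵁ V).ι ≫ μ) (⟨t, ht⟩ : V) := by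
    refine good_of_isAffine K5c D2 (hF.pullback hP) (V.ι ≫ qT) ?_ _
    rw [Category.assoc, hμ, ← Category.assoc, hP.w, Category.assoc]
  have h2 : Good f μ (V.ι ⟨t, ht⟩) := Good.comp hP h1
  exact h2.exists_opens

end K247.ConH
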