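import Groth.Agent.Fano.K247.ConField
import Groth.Agent.Fano.K123.ConA
import Groth.Agent.Old.H34.ClopenIso

/-!
# From a conic on a fibre to a family of conics

* `isCon_of_isIso`: transport of conics along isomorphisms;
* `isIso_of_span`: a morphism of conics over a field which pulls the sections back to spanning sections is an isomorphism;
* `exists_opens_isCon`: if sections `x` of `L` on a flat proper family generate, satisfy `qf c = 0`, and a geometric fibre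
  is a conic on which they span the sections, then `(f, x)` is the conic `qf c = 0` near this fibre.
-/

set_option autoImplicit false
set_option linter.style.haveILetI false

universe u

open CategoryTheory CategoryTheory.Limits AlgebraicGeometry TopologicalSpace

namespace K247.ConIso

open K390.PnSec Groth.Agent.Fdesc.LocGen Groth.Agent.Dix.ProjProper K188.LineDef K745.ConDef K247.ConAlg
open K247.ConQuad K247.ConCoh K247.ConField Groth.Agent K924.ConI

/-- Node K3, as a hypothesis. -/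
def NodeK3 : Prop := ∀ {T C : Scheme.{u}} {c : Fin 5 → Γ(T, ⊤)} {f : C ⟶ T} {L : C.Modules} {x : Fin 3 → Γ(L, ⊤)}
    (_ : IsCon c f L x), Flat f ∧ IsProper f ∧ LocallyOfFinitePresentation f

section Transport

variable {T C C' : Scheme.{u}} {c : Fin 5 → Γ(T, ⊤)} {f : C ⟶ T} {f' : C' ⟶ T} {L : C.Modules} {L' : C'.Modules}
  {x : Fin 3 → Γ(L, ⊤)} {x' : Fin 3 → Γ(L', ⊤)}

/-- Transport of conics along isomorphisms. -/
theorem isCon_of_isIso (h : IsCon c f' L' x') (r : C ⟶ C') [IsIso r] (hr : r ≫ f' = f)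
    (τ : (Scheme.Modules.pullback r).obj L' ≅ L) (hτ : ∀ i, τ.hom.app ⊤ (pullTop r (x' i)) = x i) :
    IsCon c f L x := by
  obtain ⟨ι, hf, hg, hz⟩ := h
  have := hz.isClosedImmersion
  refine ⟨r ≫ ι, by rw [Category.assoc, hf, hr], ?_, ⟨inferInstance, fun {Y} s => ?_⟩⟩
  · have h1 := (hg.comp r).of_iso τ
    rw [funext hτ] at h1
    rw [Category.assoc]
    exact h1
  · rw [← hz.exists_iff]
    constructor
    · rintro ⟨h, rfl⟩
      exact ⟨h ≫ r, by rw [Category.assoc]⟩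
    · rintro ⟨h, rfl⟩
      exact ⟨h ≫ inv r, by simp⟩

/-- Change of the module. -/
theorem isCon_of_iso {M : C.Modules} {y : Fin 3 → Γ(M, ⊤)} (h : IsCon c f L x) (e : L ≅ M)
    (he : ∀ i, e.hom.app ⊤ (x i) = y i) : IsCon c f M y := by
  obtain ⟨ι, hf, hg, hz⟩ := h
  refine ⟨ι, hf, ?_, hz⟩
  have h1 := hg.of_iso e
  rwa [funext he] at h1

end Transport

section Field

variable {Ω : Type u} [Field Ω] {Y Z : Scheme.{u}} {q : Y ⟶ Spec (CommRingCat.of Ω)} {q' : Z ⟶ Spec (CommRingCat.of Ω)}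
  {L : Y.Modules} {N : Z.Modules} {c c' : Fin 5 → Γ(Spec (CommRingCat.of Ω), ⊤)} {x x' : Fin 3 → Γ(L, ⊤)}
  {z : Fin 3 → Γ(N, ⊤)}

/-- The coordinates of spanning sections form an invertible matrix. -/
theorem exists_matrix_of_span (K4a : NodeK4a.{u}) (hY : IsCon c' q L x')
    (hspan : ∀ v, letI := modB q L; v ∈ Submodule.span Γ(Spec (CommRingCat.of Ω), ⊤) (Set.range x)) :
    ∃ G M : Matrix (Fin 3) (Fin 3) Γ(Spec (CommRingCat.of Ω), ⊤), M * G = 1 ∧
      (∀ i, x i = ∑ j, (q.appTop (G i j)) • x' j) ∧ ∀ i, x' i = ∑ j, (q.appTop (M i j)) • x j := by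
  letI := modB q L
  obtain ⟨G, hG⟩ : ∃ G : Matrix (Fin 3) (Fin 3) Γ(Spec (CommRingCat.of Ω), ⊤),
      ∀ i, x i = ∑ j, (q.appTop (G i j)) • x' j := by
    choose G hG _ using fun i => K4a hY (x i)
    exact ⟨G, hG⟩
  have h1 : ∀ i, ∃ M : Fin 3 → Γ(Spec (CommRingCat.of Ω), ⊤), x' i = ∑ j, (q.appTop (M j)) • x j := by
    intro i
    obtain ⟨M, hM⟩ := (Submodule.mem_span_range_iff_exists_fun _).1 (hspan (x' i))
    refine ⟨M, hM.symm.trans (Finset.sum_congr rfl fun j _ => ?_)⟩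
    exact modB_smul q L (M j) (x j)
  obtain ⟨M, hM⟩ : ∃ M : Matrix (Fin 3) (Fin 3) Γ(Spec (CommRingCat.of Ω), ⊤),
      ∀ i, x' i = ∑ j, (q.appTop (M i j)) • x j := by
    choose M hM using h1
    exact ⟨M, hM⟩
  refine ⟨G, M, ?_, hG, hM⟩
  funext i
  have h2 : ∑ j, (q.appTop ((M * G : Matrix (Fin 3) (Fin 3) Γ(Spec (CommRingCat.of Ω), ⊤)) i j)) • x' j =
      ∑ j, (q.appTop ((1 : Matrix (Fin 3) (Fin 3) Γ(Spec (CommRingCat.of Ω), ⊤)) i j)) • x' j := by
    rw [one_sum_smul, ← mul_sum_smul]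
    conv_rhs => rw [hM i]
    exact Finset.sum_congr rfl fun j _ => by rw [hG j]
  exact (K4a hY (∑ j, (q.appTop ((M * G : Matrix (Fin 3) (Fin 3) Γ(Spec (CommRingCat.of Ω), ⊤)) i j)) • x' j)).unique
    rfl h2

/-- Spanning sections generate. -/
theorem gens_of_span (K4a : NodeK4a.{u}) (hY : IsCon c' q L x')
    (hspan : ∀ v, letI := modB q L; v ∈ Submodule.span Γ(Spec (CommRingCat.of Ω), ⊤) (Set.range x)) : Gens x := by
  obtain ⟨G, M, -, -, hM⟩ := exists_matrix_of_span K4a hY hspan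
  exact gens_of_sum (f := q) (K924.ConVan.gens hY) M hM

/-- A morphism of conics over a field which pulls the sections back to spanning sections is an isomorphism. -/
theorem isIso_of_span (K4a : NodeK4a.{u}) (K4b : NodeK4b.{u}) (hY : IsCon c' q L x') (hZ : IsCon c q' N z)
    (hspan : ∀ v, letI := modB q L; v ∈ Submodule.span Γ(Spec (CommRingCat.of Ω), ⊤) (Set.range x))
    (r : Y ⟶ Z) (hr : r ≫ q' = q) (τ : (Scheme.Modules.pullback r).obj N ≅ L)
    (hτ : ∀ i, τ.hom.app ⊤ (pullTop r (z i)) = x i) : IsIso r := by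
  obtain ⟨G, M, hMG, hG, hM⟩ := exists_matrix_of_span K4a hY hspan
  have hGM : G * M = 1 := mul_eq_one_comm.mp hMG
  have hdet : IsUnit G.det := by
    have := congrArg Matrix.det hMG
    rw [Matrix.det_mul, Matrix.det_one] at this
    exact IsUnit.of_mul_eq_one_right _ this
  have hN := K924.ConVan.isInvertible hZ
  have hv1 : Van q (fun i => pullTop r (z i)) (qf c) := by
    have h1 := K924.ConVan.van_pull (K924.ConVan.van_qf hZ) (K924.ConVan.isHomogeneous_qf c) hN r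
    rwa [hr] at h1
  have hv2 : Van q x (qf c) := (K924.ConVan.van_iff_of_iso τ hτ).1 hv1
  have hv3 : Van q x' (comp3 (qf c) G) := by
    rw [← K924.ConVan.van_comp3_iff]
    have h1 : (fun i => ∑ j, (q.appTop (G i j)) • x' j) = x := funext fun i => (hG i).symm
    rw [h1]
    exact hv2
  obtain ⟨w, hw⟩ := K924.ConVan.exists_eq_C_mul (K924.ConVan.isHomogeneous_comp3 (K924.ConVan.isHomogeneous_qf c) G)
    ((K4b hY _ (K924.ConVan.isHomogeneous_comp3 (K924.ConVan.isHomogeneous_qf c) G)).1 hv3)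
  haveI : IsDomain Γ(Spec (CommRingCat.of Ω), ⊤) := (isField_ΓSpec Ω).isDomain
  have hw0 : w ≠ 0 := by
    rintro rfl
    rw [MvPolynomial.C_0, zero_mul] at hw
    exact qf_ne_zero c (eq_zero_of_comp3_eq_zero hGM hw)
  have hwu : IsUnit w := by
    obtain ⟨w', hw'⟩ := (isField_ΓSpec Ω).mul_inv_cancel hw0
    exact IsUnit.of_mul_eq_one _ hw'
  obtain ⟨s, -, hs, hu⟩ := existsUnique_of_matrix hY hZ G hdet w hwu hw
  have h1 : r = s := hu r hr ⟨τ, fun i => (hτ i).trans (hG i)⟩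
  rw [h1]
  exact hs

end Field

section Family

variable {S C : Scheme.{u}} (f : C ⟶ S) [IsProper f] [Flat f] [LocallyOfFinitePresentation f] {L : C.Modules}
  (hL : PicF.IsInvertible L) {x : Fin 3 → Γ(L, ⊤)} (hx : Gens x) {c : Fin 5 → Γ(S, ⊤)} (hv : Van f x (qf c))
  {Ω : Type u} [Field Ω] {b : Spec (CommRingCat.of Ω) ⟶ S} {Y : Scheme.{u}} {g : Y ⟶ C}
  {q : Y ⟶ Spec (CommRingCat.of Ω)} (H : IsPullback g q f b) {c' : Fin 5 → Γ(Spec (CommRingCat.of Ω), ⊤)}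
  {x' : Fin 3 → Γ((Scheme.Modules.pullback g).obj L, ⊤)} (hY : IsCon c' q ((Scheme.Modules.pullback g).obj L) x')

include hL hx hv H hY

/-- Near a geometric fibre which is a conic, the family is a conic. -/
theorem exists_opens_isCon (K3 : NodeK3.{u}) (K4a : NodeK4a.{u}) (K4b : NodeK4b.{u})
    (hspan : ∀ v, letI := modB q ((Scheme.Modules.pullback g).obj L)
      v ∈ Submodule.span Γ(Spec (CommRingCat.of Ω), ⊤) (Set.range fun i => pullTop g (x i))) :
    ∃ U : S.Opens, b (IsLocalRing.closedPoint Ω) ∈ U ∧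
      IsCon (fun j => U.ι.appTop (c j)) (f ∣_ U) ((Scheme.Modules.pullback (f ⁻¹ᵁ U).ι).obj L)
        (fun i => pullTop (f ⁻¹ᵁ U).ι (x i)) := by
  obtain ⟨Z, ι, hι⟩ := K123.ConA.exists_isZer (qf c) (isHomogeneous_qf c)
  have hZ : IsCon c (ι ≫ pr2 S) ((Scheme.Modules.pullback ι).obj (K123.ConA.N2 S)) (fun i => pullTop ι (crd 2 S i)) :=
    ⟨ι, rfl, K123.ConA.givenBy_crd ι rfl, hι⟩
  obtain ⟨k1, k2, k3⟩ := K3 hZ
  obtain ⟨h, ⟨hh, τ, hτ⟩, -⟩ := K123.ConA.existsUnique_hom hZ f L hL x hx hv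
  -- the fibre
  have hP : IsPullback (pullback.fst (ι ≫ pr2 S) b) (pullback.snd (ι ≫ pr2 S) b) (ι ≫ pr2 S) b :=
    IsPullback.of_hasPullback _ _
  have hZΩ := K123.ConA.isCon_pullback hZ hP
  have hw : (g ≫ h) ≫ (ι ≫ pr2 S) = q ≫ b := by
    rw [Category.assoc, hh, H.w]
  let r : Y ⟶ pullback (ι ≫ pr2 S) b := hP.lift (g ≫ h) q hw
  have hr1 : r ≫ pullback.fst (ι ≫ pr2 S) b = g ≫ h := hP.lift_fst _ _ _
  have hr2 : r ≫ pullback.snd (ι ≫ pr2 S) b = q := hP.lift_snd _ _ _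
  have hgiv : GivenBy (ι ≫ toZ 2 S) ((Scheme.Modules.pullback ι).obj (K123.ConA.N2 S))
    (fun i => pullTop ι (crd 2 S i)) := K123.ConA.givenBy_crd ι rfl
  have g1 := (hgiv.comp (pullback.fst (ι ≫ pr2 S) b)).comp r
  have g2 := (hgiv.comp h).of_iso τ
  rw [funext hτ] at g2
  have g3 := g2.comp g
  rw [← Category.assoc, hr1, Category.assoc] at g1
  obtain ⟨e, he⟩ := g1.exists_iso g3
  have hiso : IsIso r := isIso_of_span K4a K4b hY hZΩ hspan r hr2 e he
  -- the fibre criterion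
  have hsq : IsPullback g r h (pullback.fst (ι ≫ pr2 S) b) := by
    refine IsPullback.of_bot ?_ hr1.symm hP
    rw [hr2, hh]
    exact H
  have h1 : Ega4dA.IsoOver.IsoOver h (ι ≫ pr2 S) b := (Ega4dA.IsoOver.isoOver_iff h (ι ≫ pr2 S) b hP hsq).2 hiso
  have h2 := (Ega4dA.IsoOver.isoOver_iff_isoAt b).1 h1
  have i1 : IsProper (h ≫ ι ≫ pr2 S) := by rw [hh]; infer_instance
  have i2 : Flat (h ≫ ι ≫ pr2 S) := by rw [hh]; infer_instance
  have i3 : LocallyOfFinitePresentation (h ≫ ι ≫ pr2 S) := by rw [hh]; infer_instance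
  obtain ⟨U, hU, hUi⟩ := Old.H34.ClopenIso.exists_opens_isIso_of_isoAt h (ι ≫ pr2 S) _ h2
  refine ⟨U, hU, ?_⟩
  -- restrict to `U`
  have hQ : IsPullback ((ι ≫ pr2 S) ⁻¹ᵁ U).ι ((ι ≫ pr2 S) ∣_ U) (ι ≫ pr2 S) U.ι :=
    (isPullback_morphismRestrict (ι ≫ pr2 S) U).flip
  have hZU := K123.ConA.isCon_pullback hZ hQ
  subst hh
  let V : Z.Opens := (ι ≫ pr2 S) ⁻¹ᵁ U
  have j1 : IsIso (h ∣_ V) := hUi
  have g4 := (hgiv.comp V.ι).comp (h ∣_ V)
  have g5 := g2.comp (h ⁻¹ᵁ V).ι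
  have hw2 : (h ∣_ V) ≫ V.ι = (h ⁻¹ᵁ V).ι ≫ h := morphismRestrict_ι h V
  rw [← Category.assoc, hw2, Category.assoc] at g4
  obtain ⟨e', he'⟩ := g4.exists_iso g5
  have key : IsCon (fun j => U.ι.appTop (c j)) ((h ∣_ V) ≫ ((ι ≫ pr2 S) ∣_ U))
      ((Scheme.Modules.pullback (h ⁻¹ᵁ V).ι).obj L) (fun i => pullTop (h ⁻¹ᵁ V).ι (x i)) :=
    isCon_of_isIso hZU (h ∣_ V) rfl e' he'
  rw [show (h ≫ ι ≫ pr2 S) ∣_ U = (h ∣_ V) ≫ ((ι ≫ pr2 S) ∣_ U) from morphismRestrict_comp _ _ _]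
  exact key

end Family

end K247.ConIso
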