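import Groth.Agent.Fano.K247.ConAlg
import Groth.Agent.Fano.K924.ConI
import Groth.Agent.Fano.K398.ConGen
import Groth.Agent.Grpsch.PicGrp
import Groth.Agent.VarietyB.GlobGen

/-!
# Products of sections of an invertible module

* `β L : Γ(L) → Γ(L) → Γ(L ⊗ L)` is symmetric (`β_comm`), `m6 x`: the six products of three sections;
* `van_q6_iff`: `q6 b` vanishes at `x` iff `Σ b_k m6_k(x) = 0`;
* `isGloballyGenerated_tensor`.
-/

set_option autoImplicit false

universe u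

open CategoryTheory CategoryTheory.Limits AlgebraicGeometry TopologicalSpace

namespace K247.ConQuad

open K390.PnSec Groth.Agent.Fdesc.LocGen Groth.Agent.Dix.ProjProper K188.LineDef K745.ConDef K247.ConAlg

variable {X : Scheme.{u}}

/-- The product of sections. -/
noncomputable def β (L : X.Modules) : Γ(L, ⊤) →+ Γ(L, ⊤) →+ Γ(CohB1.tensorMod L L, ⊤) :=
  AddMonoidHom.mk' (fun m => AddMonoidHom.mk' (fun n => tmul m n) (tmul_add m)) fun m m' => by
    ext n
    exact add_tmul m m' n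

theorem β_apply (L : X.Modules) (m n : Γ(L, ⊤)) : β L m n = tmul m n := rfl

theorem tmul_comm {L : X.Modules} (hL : PicF.IsInvertible L) {U : X.Opens} (m n : Γ(L, U)) : tmul m n = tmul n m := by
  choose W e hW he using (isInvertible_iff L).1 hL
  refine res_ext _ (fun x : X => U ⊓ W x) (fun x => inf_le_left) ?_ fun x => ?_
  · intro x hx
    exact Opens.mem_iSup.2 ⟨x, hx, hW x⟩
  · have h1 : IsGen (res L (inf_le_right : U ⊓ W x ≤ W x) (e x)) := (he x).res _
    obtain ⟨a, ha⟩ := h1.exists_eq (res L (inf_le_left : U ⊓ W x ≤ U) m)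
    obtain ⟨b, hb⟩ := h1.exists_eq (res L (inf_le_left : U ⊓ W x ≤ U) n)
    rw [res_tmul, res_tmul, ha, hb, smul_tmul, tmul_smul, smul_tmul, tmul_smul, smul_smul, smul_smul, mul_comm]

theorem β_comm {L : X.Modules} (hL : PicF.IsInvertible L) (m n : Γ(L, ⊤)) : β L m n = β L n m := tmul_comm hL m n

/-- The six products of three sections. -/
noncomputable def m6 {L : X.Modules} (x : Fin 3 → Γ(L, ⊤)) : Fin 6 → Γ(CohB1.tensorMod L L, ⊤) :=
  ![tmul (x 0) (x 0), tmul (x 0) (x 1), tmul (x 0) (x 2), tmul (x 1) (x 1), tmul (x 1) (x 2), tmul (x 2) (x 2)]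

theorem m6_zero {L : X.Modules} (x : Fin 3 → Γ(L, ⊤)) : m6 x 0 = tmul (x 0) (x 0) := rfl

theorem m6_succ {L : X.Modules} (x : Fin 3 → Γ(L, ⊤)) (k : Fin 5) : m6 x k.succ = mon5 (β L) x k := by
  fin_cases k <;> rfl

variable {T : Scheme.{u}}

theorem eval₂_q6 {A B : Type u} [CommRing A] [CommRing B] (ρ : A →+* B) (b : Fin 6 → A) (a : Fin 3 → B) :
    MvPolynomial.eval₂ ρ a (q6 b) = ρ (b 0) * a 0 ^ 2 + ρ (b 1) * (a 0 * a 1) + ρ (b 2) * (a 0 * a 2) +
      ρ (b 3) * a 1 ^ 2 + ρ (b 4) * (a 1 * a 2) + ρ (b 5) * a 2 ^ 2 := by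
  simp [q6]

/-- The relation between products, on a chart. -/
theorem res_sum_m6 (f : X ⟶ T) {L : X.Modules} (x : Fin 3 → Γ(L, ⊤)) (b : Fin 6 → Γ(T, ⊤)) {V : X.Opens} (e : Γ(L, V))
    (a : Fin 3 → Γ(X, V)) (ha : ∀ i, res L le_top (x i) = a i • e) :
    res (CohB1.tensorMod L L) (le_top : V ≤ ⊤) (∑ k, (f.appTop (b k)) • m6 x k) =
      MvPolynomial.eval₂ (ρV f V) a (q6 b) • tmul e e := by
  have h1 : ∀ i j, res (CohB1.tensorMod L L) (le_top : V ≤ ⊤) (tmul (x i) (x j)) = (a i * a j) • tmul e e := by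
    intro i j
    rw [res_tmul, ha, ha, smul_tmul, tmul_smul, smul_smul]
  have h2 : ∀ k, ores (le_top : V ≤ ⊤) (f.appTop (b k)) = ρV f V (b k) := fun k => rfl
  have h3 : ∀ k, res (CohB1.tensorMod L L) (le_top : V ≤ ⊤) ((f.appTop (b k)) • m6 x k) =
      ρV f V (b k) • res (CohB1.tensorMod L L) (le_top : V ≤ ⊤) (m6 x k) := fun k => by rw [res_smul, h2]
  rw [map_sum, Finset.sum_congr rfl fun k _ => h3 k, Fin.sum_univ_six, eval₂_q6]
  simp only [m6, Matrix.cons_val, h1, smul_smul, ← add_smul]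
  congr 1
  ring

/-- `q6 b` vanishes at `x` iff the products satisfy the relation with coefficients `b`. -/
theorem van_q6_iff (f : X ⟶ T) {L : X.Modules} (hL : PicF.IsInvertible L) (x : Fin 3 → Γ(L, ⊤))
    (b : Fin 6 → Γ(T, ⊤)) : Van f x (q6 b) ↔ ∑ k, (f.appTop (b k)) • m6 x k = 0 := by
  constructor
  · intro h
    choose W e hW he using (isInvertible_iff L).1 hL
    refine res_ext _ (fun y : X => W y) (fun y => le_top) ?_ fun y => ?_
    · intro y hy
      exact Opens.mem_iSup.2 ⟨y, hW y⟩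
    · choose a ha using fun i => (he y).exists_eq (res L le_top (x i))
      rw [res_sum_m6 f x b (e y) a ha, h _ _ _ (he y) ha, zero_smul, map_zero]
  · intro h V e a he ha
    have h1 := res_sum_m6 f x b e a ha
    rw [h, map_zero] at h1
    refine (he.tmul he).ext ?_
    rw [← h1, zero_smul]

/-- `qf c` vanishes at `x` iff `x_0 ⊗ x_0 + Σ c_k m_k(x) = 0`. -/
theorem van_qf_iff (f : X ⟶ T) {L : X.Modules} (hL : PicF.IsInvertible L) (x : Fin 3 → Γ(L, ⊤))
    (c : Fin 5 → Γ(T, ⊤)) : Van f x (qf c) ↔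
      tmul (x 0) (x 0) + ∑ k, (f.appTop (c k)) • mon5 (β L) x k = 0 := by
  rw [qf_eq_q6, van_q6_iff f hL, Fin.sum_univ_succ]
  simp only [m6_succ, m6_zero, Matrix.cons_val_zero, map_one, one_smul]
  have h : ∀ k : Fin 5, (![1, c 0, c 1, c 2, c 3, c 4] : Fin 6 → Γ(T, ⊤)) k.succ = c k := by
    intro k
    fin_cases k <;> rfl
  simp only [h]

theorem gl_tmul {L : X.Modules} (m n : Γ(L, ⊤)) : CohB1.genLocus L (homOf m) ⊓ CohB1.genLocus L (homOf n) ≤
    CohB1.genLocus (CohB1.tensorMod L L) (homOf (tmul m n)) := by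
  rw [le_genLocus_iff, sec_homOf, res_tmul]
  refine IsGen.tmul ?_ ?_
  · rw [← sec_homOf, ← le_genLocus_iff]
    exact inf_le_left
  · rw [← sec_homOf, ← le_genLocus_iff]
    exact inf_le_right

theorem isGloballyGenerated_of_gens {L : X.Modules} {m : ℕ} {x : Fin m → Γ(L, ⊤)} (h : Gens x) :
    Curv2.IsGloballyGenerated L := by
  refine Groth.Agent.VarietyB.GlobGen.isGloballyGenerated_of_cover (κ := ULift.{u} (Fin m))
    (fun i => homOf (x i.down)) fun p => ?_
  have h1 : p ∈ ⨆ i, CohB1.genLocus L (homOf (x i)) := by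
    have h2 : ⨆ i, CohB1.genLocus L (homOf (x i)) = ⊤ := h
    rw [h2]
    trivial
  obtain ⟨i, hi⟩ := Opens.mem_iSup.1 h1
  exact ⟨⟨i⟩, hi⟩

theorem isGloballyGenerated_tensor {L : X.Modules} {m : ℕ} {x : Fin m → Γ(L, ⊤)} (h : Gens x) :
    Curv2.IsGloballyGenerated (CohB1.tensorMod L L) := by
  refine Groth.Agent.VarietyB.GlobGen.isGloballyGenerated_of_cover (κ := ULift.{u} (Fin m))
    (fun i => homOf (tmul (x i.down) (x i.down))) fun p => ?_
  have h1 : p ∈ ⨆ i, CohB1.genLocus L (homOf (x i)) := by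
    have h2 : ⨆ i, CohB1.genLocus L (homOf (x i)) = ⊤ := h
    rw [h2]
    trivial
  obtain ⟨i, hi⟩ := Opens.mem_iSup.1 h1
  exact ⟨⟨i⟩, gl_tmul _ _ ⟨hi, hi⟩⟩

end K247.ConQuad
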