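import Groth.Agent.Fano.K247.ConIso

/-!
# Quadratic relations between sections near a fibre which is a conic

* `exists_relation`: sections `x` of `L` which span the sections on the fibre, with `a x_0 ⊗ x_0 = Σ d_k m_k(x)` and `a ≠ 0`
  on the fibre;
* `exists_opens_van`: near the fibre they generate and satisfy an equation `qf c = 0`.
-/

set_option autoImplicit false
set_option linter.style.haveILetI false

universe u

open CategoryTheory CategoryTheory.Limits AlgebraicGeometry TopologicalSpace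

namespace K247.ConRel

open K390.PnSec Groth.Agent.Fdesc.LocGen Groth.Agent.Dix.ProjProper K188.LineDef K745.ConDef K247.ConAlg
open K247.ConQuad K247.ConCoh K247.ConField Groth.Agent K924.ConI K247.ConIso

/-- A basis can be chosen in a spanning family. -/
theorem exists_fin {K V ι : Type*} [Field K] [AddCommGroup V] [Module K V] {m : ℕ} (hm : 0 < m)
    (hV : Module.finrank K V = m) (s : ι → V) (hs : ∀ v, v ∈ Submodule.span K (Set.range s)) :
    ∃ y : Fin m → ι, ∀ v, v ∈ Submodule.span K (Set.range fun i => s (y i)) := by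
  haveI : Module.Finite K V := Module.finite_of_finrank_pos (by omega)
  obtain ⟨κ, a, -, hsp, hli⟩ := exists_linearIndependent' K s
  have h1 : Submodule.span K (Set.range (s ∘ a)) = ⊤ := by
    rw [hsp]
    exact Submodule.eq_top_iff'.2 hs
  haveI : Finite κ := hli.finite
  haveI : Fintype κ := Fintype.ofFinite κ
  let B : Module.Basis κ K V := Module.Basis.mk hli h1.ge
  have h2 : Fintype.card κ = m := by rw [← Module.finrank_eq_card_basis B, hV]
  let e : Fin m ≃ κ := (Fintype.equivFinOfCardEq h2).symm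
  refine ⟨a ∘ e, fun v => ?_⟩
  have h3 : (Set.range fun i => s ((a ∘ e) i)) = Set.range (s ∘ a) := by
    ext w
    constructor
    · rintro ⟨i, rfl⟩
      exact ⟨e i, rfl⟩
    · rintro ⟨j, rfl⟩
      exact ⟨e.symm j, by simp⟩
  rw [h3, h1]
  trivial

/-- Morphisms of modules preserve spans of sections. -/
theorem app_mem_span {T Y : Scheme.{u}} (q : Y ⟶ T) {M M' : Y.Modules} (e : M ⟶ M') {ι : Type*} (s : ι → Γ(M, ⊤))
    (v : Γ(M, ⊤)) (hv : letI := modB q M; v ∈ Submodule.span Γ(T, ⊤) (Set.range s)) :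
    letI := modB q M'
    e.app ⊤ v ∈ Submodule.span Γ(T, ⊤) (Set.range fun i => e.app ⊤ (s i)) := by
  letI i1 := modB q M
  letI i2 := modB q M'
  induction hv using Submodule.span_induction with
  | mem x hx =>
    obtain ⟨i, rfl⟩ := hx
    exact Submodule.subset_span ⟨i, rfl⟩
  | zero =>
    rw [map_zero]
    exact Submodule.zero_mem _
  | add x y _ _ hx hy =>
    rw [map_add]
    exact Submodule.add_mem _ hx hy
  | smul a x _ hx =>
    have h1 : e.app ⊤ (a • x) = a • e.app ⊤ x := by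
      rw [modB_smul, modB_smul]
      exact Scheme.Modules.Hom.app_smul e (q.appTop a) x
    rw [h1]
    exact Submodule.smul_mem _ _ hx

theorem pullTop_zsmul_sum {X Y : Scheme.{u}} (g : Y ⟶ X) {M : X.Modules} {κ : Type*} [Fintype κ] (P : κ → ℤ)
    (y : κ → Γ(M, ⊤)) : pullTop g (∑ j, P j • y j) = ∑ j, P j • pullTop g (y j) := by
  have h1 : ∀ m, pullTop g m = pullTopHom g M m := fun _ => rfl
  simp only [h1, map_sum, map_zsmul]

theorem pullTensor_tmul {X Y : Scheme.{u}} (g : Y ⟶ X) {L : X.Modules} (m n : Γ(L, ⊤)) :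
    (Grpsch.PicGrp.pullTensor g L L).app ⊤ (pullTop g (tmul m n)) = tmul (pullTop g m) (pullTop g n) :=
  Grpsch.PicGrp.pullTensor_app (U := ⊤) g m n

/-- The comparison of products and pull backs. -/
theorem pullTensor_mon5 {X Y : Scheme.{u}} (g : Y ⟶ X) {L : X.Modules} (x : Fin 3 → Γ(L, ⊤)) (k : Fin 5) :
    (Grpsch.PicGrp.pullTensor g L L).app ⊤ (pullTop g (mon5 (β L) x k)) =
      mon5 (β ((Scheme.Modules.pullback g).obj L)) (fun i => pullTop g (x i)) k := by
  fin_cases k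
  · exact pullTensor_tmul g (x 0) (x 1)
  · exact pullTensor_tmul g (x 0) (x 2)
  · exact pullTensor_tmul g (x 1) (x 1)
  · exact pullTensor_tmul g (x 1) (x 2)
  · exact pullTensor_tmul g (x 2) (x 2)

theorem isUnit_of_basicOpen_eq_top {Y : Scheme.{u}} (c : Γ(Y, ⊤)) (h : Y.basicOpen c = ⊤) : IsUnit c := by
  have h1 := Y.toRingedSpace.isUnit_res_basicOpen c
  have h2 : ∀ (V : Y.Opens) (hV : V ≤ ⊤) (_ : V = ⊤), IsUnit (Y.presheaf.map (homOfLE hV).op c) → IsUnit c := by
    rintro V hV rfl h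
    have : (homOfLE hV).op = 𝟙 (Opposite.op (⊤ : Y.Opens)) := rfl
    rw [this, Y.presheaf.map_id] at h
    exact h
  exact h2 _ _ h h1

theorem mem_basicOpen_of_ne_zero {S : Scheme.{u}} {Ω : Type u} [Field Ω] {b : Spec (CommRingCat.of Ω) ⟶ S}
    {a : Γ(S, ⊤)} (ha : b.appTop a ≠ 0) (p : Spec (CommRingCat.of Ω)) : b p ∈ S.basicOpen a := by
  have h1 : p ∈ b ⁻¹ᵁ S.basicOpen a := by
    rw [Scheme.preimage_basicOpen]
    obtain ⟨a', ha'⟩ := (isField_ΓSpec Ω).mul_inv_cancel ha
    have h2 : IsUnit (b.appTop a) := IsUnit.of_mul_eq_one _ ha'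
    have h3 : (Spec (CommRingCat.of Ω)).basicOpen (b.appTop a) = ⊤ := Scheme.basicOpen_of_isUnit _ h2
    exact h3.ge trivial
  exact h1

section

variable {S C : Scheme.{u}} (f : C ⟶ S) [IsProper f] [Flat f] [LocallyOfFinitePresentation f]
  {L : C.Modules} (hL : PicF.IsInvertible L) {m : ℕ} {s : Fin m → Γ(L, ⊤)} (hs : Gens s)
  {Ω : Type u} [Field Ω] {b : Spec (CommRingCat.of Ω) ⟶ S} {Y : Scheme.{u}} {g : Y ⟶ C}
  {q : Y ⟶ Spec (CommRingCat.of Ω)} (H : IsPullback g q f b) {c' : Fin 5 → Γ(Spec (CommRingCat.of Ω), ⊤)}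
  {x' : Fin 3 → Γ((Scheme.Modules.pullback g).obj L, ⊤)} (hY : IsCon c' q ((Scheme.Modules.pullback g).obj L) x')

include hL hs H hY in
theorem exists_relation [IsAffine S] (K4a : NodeK4a.{u}) (K4b : NodeK4b.{u}) (hrat : RatFib f) (hratq : RatFib q)
    (hdim : topologicalKrullDim Y = 1)
    (hdeg : letI : Y.Over (Spec (CommRingCat.of Ω)) := ⟨q⟩
      Curv2.deg Ω Y ((Scheme.Modules.pullback g).obj L) 1 = 2) :
    ∃ (x : Fin 3 → Γ(L, ⊤)) (a : Γ(S, ⊤)) (d : Fin 5 → Γ(S, ⊤)), b.appTop a ≠ 0 ∧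
      (∀ v, letI := modB q ((Scheme.Modules.pullback g).obj L)
        v ∈ Submodule.span Γ(Spec (CommRingCat.of Ω), ⊤) (Set.range fun i => pullTop g (x i))) ∧
      (f.appTop a) • tmul (x 0) (x 0) = ∑ k, (f.appTop (d k)) • mon5 (β L) x k := by
  haveI : IsProper q := MorphismProperty.of_isPullback (P := @IsProper) H inferInstance
  have hgg := isGloballyGenerated_of_gens hs
  have hLL := isInvertible_tensorMod hL hL
  have hggt := isGloballyGenerated_tensor hs
  -- choose `y`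
  obtain ⟨y, hy⟩ : ∃ y : Fin 3 → Γ(L, ⊤), ∀ v, letI := modK q ((Scheme.Modules.pullback g).obj L)
      v ∈ Submodule.span Ω (Set.range fun i => pullTop g (y i)) := by
    letI := modK q ((Scheme.Modules.pullback g).obj L)
    exact exists_fin (by norm_num) (finrank_sec K4a hY) (fun m : Γ(L, ⊤) => pullTop g m) fun v =>
      (mem_span_iff q _ _ v).2 (mem_span_pullTop f hrat hL hgg H v)
  obtain ⟨P, Q, hQP, hspan⟩ := exists_matrix_field K4a K4b hratq hdim hdeg hY (fun i => pullTop g (y i)) hy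
  let x : Fin 3 → Γ(L, ⊤) := fun i => ∑ j, P i j • y j
  have hx : ∀ i, pullTop g (x i) = ∑ j, P i j • pullTop g (y j) := fun i => pullTop_zsmul_sum g (P i) y
  have hyx : ∀ i, pullTop g (y i) = ∑ j, Q i j • pullTop g (x j) := by
    intro i
    simp only [hx, Finset.smul_sum, smul_smul]
    rw [Finset.sum_comm]
    have h1 : ∀ k, ∑ j, (Q i j * P j k) • pullTop g (y k) =
        (1 : Matrix (Fin 3) (Fin 3) ℤ) i k • pullTop g (y k) := by
      intro k
      rw [← Finset.sum_smul, ← Matrix.mul_apply, hQP]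
    simp only [h1, Matrix.one_apply, ite_smul, one_smul, zero_smul, Finset.sum_ite_eq, Finset.mem_univ, if_true]
  have hxs : ∀ v, letI := modB q ((Scheme.Modules.pullback g).obj L)
      v ∈ Submodule.span Γ(Spec (CommRingCat.of Ω), ⊤) (Set.range fun i => pullTop g (x i)) := by
    intro v
    letI := modB q ((Scheme.Modules.pullback g).obj L)
    have h1 := (mem_span_iff q _ _ v).1 (hy v)
    refine (Submodule.span_le.2 ?_) h1
    rintro _ ⟨i, rfl⟩
    change pullTop g (y i) ∈ Submodule.span _ _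
    rw [hyx]
    refine Submodule.sum_mem _ fun j _ => ?_
    have h2 : pullTop g (x j) ∈ Submodule.span Γ(Spec (CommRingCat.of Ω), ⊤) (Set.range fun i => pullTop g (x i)) :=
      Submodule.subset_span ⟨j, rfl⟩
    exact zsmul_mem h2 _
  -- the five products span the sections near the fibre
  have hiso : IsIso (Grpsch.PicGrp.pullTensor g L L) := Grpsch.PicGrp.isIso_pullTensor g hL hL
  let e : (Scheme.Modules.pullback g).obj (CohB1.tensorMod L L) ≅ _ := asIso (Grpsch.PicGrp.pullTensor g L L)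
  have hu : ∀ v : Γ((Scheme.Modules.pullback g).obj (CohB1.tensorMod L L), ⊤),
      letI := modB q ((Scheme.Modules.pullback g).obj (CohB1.tensorMod L L))
      v ∈ Submodule.span Γ(Spec (CommRingCat.of Ω), ⊤) (Set.range fun i => pullTop g (mon5 (β L) x i)) := by
    intro v
    have h1 := (mem_span_iff q _ _ _).1 (hspan (e.hom.app ⊤ v))
    have h2 := app_mem_span q e.inv _ _ h1
    have h3 : e.inv.app ⊤ (e.hom.app ⊤ v) = v := congr(($(e.hom_inv_id).app ⊤) v)
    have h4 : ∀ k, e.inv.app ⊤ (mon5 (β ((Scheme.Modules.pullback g).obj L)) (fun i => ∑ j, P i j • pullTop g (y j)) k) =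
        pullTop g (mon5 (β L) x k) := by
      intro k
      have h5 : e.hom.app ⊤ (pullTop g (mon5 (β L) x k)) =
          mon5 (β ((Scheme.Modules.pullback g).obj L)) (fun i => ∑ j, P i j • pullTop g (y j)) k := by
        rw [← funext hx]
        exact pullTensor_mon5 g x k
      rw [← h5]
      exact congr(($(e.hom_inv_id).app ⊤) (pullTop g (mon5 (β L) x k)))
    rw [h3] at h2
    simp only [h4] at h2
    exact h2
  obtain ⟨a, ha, hm⟩ := exists_smul_mem f hrat hLL hggt H (isField_ΓSpec Ω) (mon5 (β L) x) hu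
  letI := modB f (CohB1.tensorMod L L)
  obtain ⟨d, hd⟩ := (Submodule.mem_span_range_iff_exists_fun _).1 (hm (tmul (x 0) (x 0)))
  refine ⟨x, a, d, ha, hxs, ?_⟩
  rw [modB_smul] at hd
  rw [← hd]
  exact Finset.sum_congr rfl fun k _ => modB_smul f (CohB1.tensorMod L L) (d k) _

omit [Flat f] [LocallyOfFinitePresentation f] in
include hL H hY in
theorem exists_opens_van (K4a : NodeK4a.{u}) {x : Fin 3 → Γ(L, ⊤)} {a : Γ(S, ⊤)} {d : Fin 5 → Γ(S, ⊤)}
    (ha : b.appTop a ≠ 0)
    (hspan : ∀ v, letI := modB q ((Scheme.Modules.pullback g).obj L)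
        v ∈ Submodule.span Γ(Spec (CommRingCat.of Ω), ⊤) (Set.range fun i => pullTop g (x i)))
    (hr : (f.appTop a) • tmul (x 0) (x 0) = ∑ k, (f.appTop (d k)) • mon5 (β L) x k) :
    ∃ (W : S.Opens) (_ : b (IsLocalRing.closedPoint Ω) ∈ W) (c : Fin 5 → Γ(W, ⊤)),
      Gens (fun i => pullTop (f ⁻¹ᵁ W).ι (x i)) ∧ Van (f ∣_ W) (fun i => pullTop (f ⁻¹ᵁ W).ι (x i)) (qf c) := by
  obtain ⟨W₁, hW₁, hG⟩ := Old.H34.ClopenIso.exists_opens_of_isClosedMap f f.isClosedMap
    (⨆ i, CohB1.genLocus L (homOf (x i)) : C.Opens) (⨆ i, CohB1.genLocus L (homOf (x i)) : C.Opens).isOpen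
    (b (IsLocalRing.closedPoint Ω)) (by
      intro p hp
      obtain ⟨z, hz, -⟩ := Scheme.exists_preimage_of_isPullback H p (IsLocalRing.closedPoint Ω) hp
      have h1 : Gens (fun i => pullTop g (x i)) := gens_of_span K4a hY hspan
      have h2 : z ∈ ⨆ i, CohB1.genLocus _ (homOf (pullTop g (x i))) := h1.ge trivial
      obtain ⟨i, hi⟩ := Opens.mem_iSup.1 h2
      rw [genLocus_pullTop g hL] at hi
      rw [← hz]
      exact Opens.mem_iSup.2 ⟨i, hi⟩)
  let W : S.Opens := W₁ ⊓ S.basicOpen a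
  have hau : IsUnit (W.ι.appTop a) := by
    refine isUnit_of_basicOpen_eq_top _ ?_
    have h1 : W.ι ⁻¹ᵁ S.basicOpen a = W.toScheme.basicOpen (W.ι.appTop a) := Scheme.preimage_basicOpen _ _
    rw [← h1, eq_top_iff]
    intro p _
    exact p.2.2
  obtain ⟨a', ha'⟩ := hau.exists_left_inv
  refine ⟨W, ⟨hW₁, mem_basicOpen_of_ne_zero ha _⟩, fun k => -(a' * W.ι.appTop (d k)), ?_, ?_⟩
  · change ⨆ i, CohB1.genLocus _ (homOf (pullTop (f ⁻¹ᵁ W).ι (x i))) = ⊤
    rw [eq_top_iff]
    intro p _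
    have h1 : (f ⁻¹ᵁ W).ι p ∈ (⨆ i, CohB1.genLocus L (homOf (x i)) : C.Opens) := hG _ p.2.1
    obtain ⟨i, hi⟩ := Opens.mem_iSup.1 h1
    refine Opens.mem_iSup.2 ⟨i, ?_⟩
    rw [genLocus_pullTop _ hL]
    exact hi
  · let i₁ : (f ⁻¹ᵁ W).toScheme ⟶ C := (f ⁻¹ᵁ W).ι
    have hw : (f ∣_ W) ≫ W.ι = i₁ ≫ f := morphismRestrict_ι f W
    have hφ : ∀ t : Γ(S, ⊤), i₁.appTop (f.appTop t) = (f ∣_ W).appTop (W.ι.appTop t) := by
      intro t
      have h1 := congr(($hw).appTop t)
      rw [Scheme.Hom.comp_appTop, Scheme.Hom.comp_appTop] at h1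
      exact h1.symm
    have h1 : ∀ (t : Γ(S, ⊤)) (m : Γ(CohB1.tensorMod L L, ⊤)),
        (Grpsch.PicGrp.pullTensor i₁ L L).app ⊤ (pullTop i₁ ((f.appTop t) • m)) =
          (f ∣_ W).appTop (W.ι.appTop t) • (Grpsch.PicGrp.pullTensor i₁ L L).app ⊤ (pullTop i₁ m) := by
      intro t m
      have h2 : pullTop i₁ ((f.appTop t) • m) = i₁.appTop (f.appTop t) • pullTop i₁ m := pullSec_smul i₁ _ m
      rw [h2, hφ]
      exact Scheme.Modules.Hom.app_smul _ _ _
    have h2 := congrArg (fun m => (Grpsch.PicGrp.pullTensor i₁ L L).app ⊤ (pullTopHom i₁ _ m)) hr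
    simp only [map_sum] at h2
    have h3 : ((f ∣_ W).appTop (W.ι.appTop a)) • tmul (pullTop i₁ (x 0)) (pullTop i₁ (x 0)) =
        ∑ k, ((f ∣_ W).appTop (W.ι.appTop (d k))) •
          mon5 (β ((Scheme.Modules.pullback i₁).obj L)) (fun i => pullTop i₁ (x i)) k := by
      refine Eq.trans ?_ (h2.trans (Finset.sum_congr rfl fun k _ => ?_))
      · refine Eq.trans ?_ (h1 a (tmul (x 0) (x 0))).symm
        rw [pullTensor_tmul]
      · refine (h1 (d k) _).trans ?_
        rw [pullTensor_mon5]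
    rw [van_qf_iff _ (isInvertible_pullback _ hL)]
    have h4 := congrArg (fun m => ((f ∣_ W).appTop a') • m) h3
    simp only [Finset.smul_sum, smul_smul, ← map_mul] at h4
    rw [ha', map_one, one_smul] at h4
    refine (congrArg₂ (· + ·) h4 rfl).trans ?_
    rw [← Finset.sum_add_distrib]
    refine Finset.sum_eq_zero fun k _ => ?_
    simp only [map_neg, neg_smul]
    exact add_neg_cancel _

end

end K247.ConRel
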